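import Groth.Agent.Lib.Helper92.LocCohLES2
import Groth.Agent.Lib.Helper39.Dual.HDIOmega

/-!
# `Dual2.HDI A I M[0] i ≃ LocCoh.H I i M` (helper39)
-/

set_option autoImplicit false
universe u

namespace Groth.Agent.Lib.Helper39.LD

open CategoryTheory CategoryTheory.Limits DerivedCategory Opposite
open Groth.Agent.Lib.Helper92.LC Groth.Agent.Lib.Helper39.Dual

attribute [local instance] HasDerivedCategory.standard

variable {A : Type u} [CommRing A] (I : Ideal A) (i : ℕ) (M : ModuleCat.{u} A)

/-- the target shifted object -/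
noncomputable abbrev tgt : Dual.D A :=
  ((DerivedCategory.singleFunctor (ModuleCat.{u} A) 0).obj M)⟦(i : ℤ)⟧

/-- `Ext^i(A/I^t, M) ≃ Hom_{D(A)}(A/I^t, M[i])` -/
noncomputable abbrev hle (t : ℕ) : Abelian.Ext.{u} (Q I t) M i ≃ₗ[A]
    ((DerivedCategory.singleFunctor (ModuleCat.{u} A) 0).obj (Q I t) ⟶ tgt i M) :=
  Abelian.Ext.homLinearEquiv (R := A)

theorem hle_proj {s t : ℕ} (h : t ≤ s) (x : Abelian.Ext.{u} (Q I t) M i) :
    hle I i M s ((Abelian.Ext.mk₀ (proj I h)).comp x (zero_add i)) =
      (DerivedCategory.singleFunctor (ModuleCat.{u} A) 0).map (proj I h) ≫ hle I i M t x := by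
  change ((Abelian.Ext.mk₀ (proj I h)).comp x (zero_add i)).hom = _
  rw [Abelian.Ext.comp_hom, Abelian.Ext.mk₀_hom, ShiftedHom.mk₀_comp]
  rfl

/-- the legs of the cocone -/
noncomputable def legH (t : ℕ) :
    ((DerivedCategory.singleFunctor (ModuleCat.{u} A) 0).obj (Q I t) ⟶ tgt i M) →ₗ[A]
      ULift.{u + 1} ((localCohomology I i).obj M) :=
  ULift.moduleEquiv.symm.toLinearMap ∘ₗ mkLin I i t ∘ₗ (hle I i M t).symm.toLinearMap

theorem legH_apply (t : ℕ)
    (φ : (DerivedCategory.singleFunctor (ModuleCat.{u} A) 0).obj (Q I t) ⟶ tgt i M) :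
    (legH I i M t φ).down = mk I i t ((hle I i M t).symm φ) := rfl

theorem legH_proj {s t : ℕ} (h : t ≤ s)
    (φ : (DerivedCategory.singleFunctor (ModuleCat.{u} A) 0).obj (Q I t) ⟶ tgt i M) :
    legH I i M s ((DerivedCategory.singleFunctor (ModuleCat.{u} A) 0).map (proj I h) ≫ φ) =
      legH I i M t φ := by
  apply ULift.ext
  rw [legH_apply, legH_apply]
  have h1 : (hle I i M s).symm
      ((DerivedCategory.singleFunctor (ModuleCat.{u} A) 0).map (proj I h) ≫ φ) =
      (Abelian.Ext.mk₀ (proj I h)).comp ((hle I i M t).symm φ) (zero_add i) := by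
    apply (hle I i M s).injective
    rw [LinearEquiv.apply_symm_apply, hle_proj, LinearEquiv.apply_symm_apply]
  rw [h1, mk_proj]

/-- the cocone with point `H^i_I(M)` -/
noncomputable def coconeH : Cocone (hdiDiag I ((DerivedCategory.singleFunctor (ModuleCat.{u} A) 0).obj M) i) where
  pt := ModuleCat.of A (ULift.{u + 1} ((localCohomology I i).obj M))
  ι :=
    { app := fun j => ModuleCat.ofHom (legH I i M j.unop.unop)
      naturality := by
        intro j k w
        ext φ
        have hle' : j.unop.unop ≤ k.unop.unop := w.unop.unop.le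
        exact legH_proj I i M hle' φ }

/-- the comparison map -/
noncomputable def cmpH : Dual2.HDI A I ((DerivedCategory.singleFunctor (ModuleCat.{u} A) 0).obj M) i →ₗ[A]
    ULift.{u + 1} ((localCohomology I i).obj M) :=
  (colimit.desc _ (coconeH I i M)).hom

theorem cmpH_ι (t : ℕ)
    (φ : (DerivedCategory.singleFunctor (ModuleCat.{u} A) 0).obj (Q I t) ⟶ tgt i M) :
    cmpH I i M ((colimit.ι (hdiDiag I ((DerivedCategory.singleFunctor (ModuleCat.{u} A) 0).obj M) i)
      (op (op t))).hom φ) = legH I i M t φ := by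
  have := colimit.ι_desc (coconeH I i M) (op (op t))
  exact congrArg (fun g => g.hom φ) this

theorem cmpH_surjective : Function.Surjective (cmpH I i M) := by
  intro y
  obtain ⟨t, x, hx⟩ := exists_rep I i y.down
  refine ⟨(colimit.ι (hdiDiag I ((DerivedCategory.singleFunctor (ModuleCat.{u} A) 0).obj M) i)
      (op (op t))).hom (hle I i M t x), ?_⟩
  rw [cmpH_ι]
  apply ULift.ext
  rw [legH_apply, LinearEquiv.symm_apply_apply, hx]

theorem cmpH_injective : Function.Injective (cmpH I i M) := by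
  rw [← LinearMap.ker_eq_bot, LinearMap.ker_eq_bot']
  intro x hx
  obtain ⟨t, φ, rfl⟩ := hdi_exists_rep I _ i x
  rw [cmpH_ι] at hx
  have h1 : mk I i t ((hle I i M t).symm φ) = 0 := by
    rw [← legH_apply, hx]
    rfl
  obtain ⟨k, hk, h2⟩ := (mk_eq_zero_iff I i _).1 h1
  have h3 : (DerivedCategory.singleFunctor (ModuleCat.{u} A) 0).map (proj I hk) ≫ φ = 0 := by
    have := congrArg (hle I i M k) h2
    rw [hle_proj, LinearEquiv.apply_symm_apply, map_zero] at this
    exact this
  have h4 := colimit.w (hdiDiag I ((DerivedCategory.singleFunctor (ModuleCat.{u} A) 0).obj M) i)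
    (homOfLE hk).op.op
  have h5 : (colimit.ι (hdiDiag I ((DerivedCategory.singleFunctor (ModuleCat.{u} A) 0).obj M) i)
      (op (op k))).hom (((hdiDiag I ((DerivedCategory.singleFunctor (ModuleCat.{u} A) 0).obj M) i).map
        (homOfLE hk).op.op).hom φ) = (colimit.ι (hdiDiag I
          ((DerivedCategory.singleFunctor (ModuleCat.{u} A) 0).obj M) i) (op (op t))).hom φ :=
    congrArg (fun g => g.hom φ) h4
  rw [← h5]
  have h6 : ((hdiDiag I ((DerivedCategory.singleFunctor (ModuleCat.{u} A) 0).obj M) i).map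
      (homOfLE hk).op.op).hom φ = 0 := h3
  rw [h6, map_zero]

/-- **`H^i_I(M[0]) ≃ H^i_I(M)`**: the derived-category colimit agrees with Mathlib's local cohomology. -/
noncomputable def hdiEquivH :
    Dual2.HDI A I ((DerivedCategory.singleFunctor (ModuleCat.{u} A) 0).obj M) i ≃ₗ[A]
      (localCohomology I i).obj M :=
  (LinearEquiv.ofBijective (cmpH I i M) ⟨cmpH_injective I i M, cmpH_surjective I i M⟩).trans
    ULift.moduleEquiv

end Groth.Agent.Lib.Helper39.LD
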