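import Mathlib
import Groth.Prelude.Def_DRing4
import Groth.Agent.Lib.Helper25.LocColim.Homology

/-!
# `Γ_I Hom•(P, J) ≅ Hom•(P, Γ_I J)` for `P` bounded above with finite terms, `J` bounded below (helper39)
-/

set_option autoImplicit false
universe u

namespace Groth.Agent.Lib.Helper39.LD

open CategoryTheory CategoryTheory.Limits CochainComplex CochainComplex.HomComplex
open Groth.Agent.Lib.Helper25.LocColim

variable {A : Type u} [CommRing A] (I : Ideal A)

/-- a linear map from a finite module into the torsion submodule is killed by a power of `I` -/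
theorem exists_pow_kill {N M : Type u} [AddCommGroup N] [Module A N] [AddCommGroup M] [Module A M]
    [Module.Finite A N] (f : N →ₗ[A] DRing.torsionSub I M) :
    ∃ k : ℕ, ∀ r ∈ I ^ k, ∀ x : N, r • f x = 0 := by
  obtain ⟨S, hS⟩ := (Module.Finite.fg_top : (⊤ : Submodule A N).FG)
  have hk : ∀ s : N, ∃ k : ℕ, ∀ r ∈ I ^ k, r • (f s : M) = 0 := fun s => (f s).2
  choose κ hκ using hk
  refine ⟨S.sup κ, fun r hr x => ?_⟩
  have hx : x ∈ Submodule.span A (S : Set N) := by rw [hS]; trivial
  induction hx using Submodule.span_induction with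
  | mem s hs =>
    apply Subtype.ext
    exact hκ s r (Ideal.pow_le_pow_right (Finset.le_sup (f := κ) hs) hr)
  | zero => rw [map_zero, smul_zero]
  | add x y _ _ hx hy => rw [map_add, smul_add, hx, hy, add_zero]
  | smul c x _ hx => rw [map_smul, smul_comm, hx, smul_zero]

variable (P J : DRing.Cx A)

/-- the inclusion `Γ_I J ⟶ J` -/
noncomputable def gamι : gam I J ⟶ J where
  f q := ModuleCat.ofHom (DRing.torsionSub I (J.X q)).subtype
  comm' _ _ _ := rfl

/-- `Hom•(P, Γ_I J) ⟶ Hom•(P, J)` -/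
noncomputable abbrev T : DRing.homCx P (gam I J) ⟶ DRing.homCx P J :=
  DRing.homCxMap P (gamι I J)

theorem T_v (n : ℤ) (z : Cochain P (gam I J) n) (p q : ℤ) (hpq : p + n = q) (x : P.X p) :
    ((show Cochain P J n from ((T I P J).f n).hom z).v p q hpq).hom x =
      ((show DRing.torsionSub I (J.X q) from (z.v p q hpq).hom x) : J.X q) := by
  change ((z.comp (Cochain.ofHom (gamι I J)) (add_zero n)).v p q hpq).hom x = _
  rw [Cochain.comp_zero_cochain_v, Cochain.ofHom_v]
  rfl

theorem T_injective (n : ℤ) (z z' : Cochain P (gam I J) n)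
    (h : ((T I P J).f n).hom z = ((T I P J).f n).hom z') : z = z' := by
  refine Cochain.ext _ _ (fun p q hpq => ?_)
  ext x
  apply Subtype.ext
  have h1 : ((show Cochain P J n from ((T I P J).f n).hom z).v p q hpq).hom x =
      ((show Cochain P J n from ((T I P J).f n).hom z').v p q hpq).hom x := by rw [h]
  rw [T_v, T_v] at h1
  exact h1

variable {I P J}

theorem T_mem (hP : ∀ p, Module.Finite A (P.X p)) (bP : ℤ) (hbP : ∀ p, bP < p → IsZero (P.X p))
    (a : ℤ) (ha : ∀ q, q < a → IsZero (J.X q)) (n : ℤ) (z : Cochain P (gam I J) n) :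
    ((T I P J).f n).hom z ∈ DRing.torsionSub I (Cochain P J n) := by
  have hk : ∀ p : ℤ, ∃ k : ℕ, ∀ r ∈ I ^ k, ∀ x : P.X p,
      r • (z.v p (p + n) rfl).hom x = 0 := fun p => by
    have := hP p
    exact exists_pow_kill I (z.v p (p + n) rfl).hom
  choose κ hκ using hk
  refine ⟨(Finset.Icc (a - n) bP).sup κ, fun r hr => ?_⟩
  refine Cochain.ext _ _ (fun p q hpq => ?_)
  obtain rfl : q = p + n := hpq.symm
  rw [Cochain.smul_v, Cochain.zero_v]
  by_cases hp1 : bP < p
  · exact (hbP p hp1).eq_of_src _ _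
  by_cases hp2 : p + n < a
  · exact (ha _ hp2).eq_of_tgt _ _
  have hmem : p ∈ Finset.Icc (a - n) bP := Finset.mem_Icc.2 ⟨by omega, by omega⟩
  ext x
  change r • ((show Cochain P J n from ((T I P J).f n).hom z).v p (p + n) rfl).hom x = 0
  rw [T_v]
  have := hκ p r (Ideal.pow_le_pow_right (Finset.le_sup (f := κ) hmem) hr) x
  exact congrArg Subtype.val this

theorem T_surjective_on (n : ℤ) (w : Cochain P J n) (hw : w ∈ DRing.torsionSub I (Cochain P J n)) :
    ∃ z : Cochain P (gam I J) n, ((T I P J).f n).hom z = w := by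
  obtain ⟨k, hk⟩ := hw
  refine ⟨Cochain.mk (fun p q hpq => ModuleCat.ofHom
    (LinearMap.codRestrict (DRing.torsionSub I (J.X q)) (w.v p q hpq).hom (fun x => ⟨k, fun r hr => by
      have h1 := congrArg (fun c : Cochain P J n => (c.v p q hpq).hom x) (hk r hr)
      simp only [Cochain.smul_v, Cochain.zero_v] at h1
      exact h1⟩))), ?_⟩
  refine Cochain.ext _ _ (fun p q hpq => ?_)
  ext x
  rw [T_v]
  rfl

variable (I P J)

/-- **`Hom•(P, Γ_I J) ≅ Γ_I Hom•(P, J)`** -/
noncomputable def gamHomIso (hP : ∀ p, Module.Finite A (P.X p)) (bP : ℤ)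
    (hbP : ∀ p, bP < p → IsZero (P.X p)) (a : ℤ) (ha : ∀ q, q < a → IsZero (J.X q)) :
    DRing.homCx P (gam I J) ≅ gam I (DRing.homCx P J) :=
  HomologicalComplex.Hom.isoOfComponents (fun n =>
    (LinearEquiv.ofBijective
      (LinearMap.codRestrict (DRing.torsionSub I (Cochain P J n)) ((T I P J).f n).hom
        (fun z => T_mem hP bP hbP a ha n z))
      ⟨fun z z' h => T_injective I P J n z z' (congrArg Subtype.val h),
       fun ⟨w, hw⟩ => by
        obtain ⟨z, hz⟩ := T_surjective_on n w hw
        exact ⟨z, Subtype.ext hz⟩⟩).toModuleIso) (fun i j _ => by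
    ext z
    apply Subtype.ext
    exact congrArg (fun f => f.hom z) ((T I P J).comm i j))

end Groth.Agent.Lib.Helper39.LD
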