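import Groth.Agent.Lib.Helper25.LocColim.Kappa
import Groth.Agent.Lib.Helper25.Bidual.DD
import Mathlib.Algebra.Homology.DerivedCategory.Linear
import Mathlib.Algebra.Category.ModuleCat.Abelian

/-!
# `H^q(Hom•(K, J)) ≃ Hom_{D(A)}(K, J⟦q⟧)` for a K-injective complex `J` (helper39)
-/

set_option autoImplicit false
universe u

namespace Groth.Agent.Lib.Helper39.LD.HomCxHom

open CategoryTheory CategoryTheory.Limits CochainComplex CochainComplex.HomComplex DerivedCategory
open Groth.Agent.Lib.Helper25.LocColim

attribute [local instance] HasDerivedCategory.standard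

variable {A : Type u} [CommRing A] (K J : DRing.Cx A) (q : ℤ)

/-- the short complex computing the cohomology of `Hom•(K, J)` in degree `q` -/
noncomputable abbrev SC : ShortComplex (ModuleCat.{u} A) :=
  (DRing.homCx K J).sc' (q - 1) q (q + 1)

/-- the cocycle attached to an element of the kernel -/
noncomputable def coc (z : LinearMap.ker (SC K J q).g.hom) : Cocycle K J q :=
  Cocycle.mk (show Cochain K J q from z.1) (q + 1) rfl z.2

theorem coc_add (z z' : LinearMap.ker (SC K J q).g.hom) :
    coc K J q (z + z') = coc K J q z + coc K J q z' := by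
  ext p p' hp
  rfl

theorem coc_smul (a : A) (z : LinearMap.ker (SC K J q).g.hom) :
    coc K J q (a • z) = (coc K J q z).precomp (a • 𝟙 K) := by
  apply Cocycle.ext
  change a • (show Cochain K J q from z.1) =
    (Cochain.ofHom (a • 𝟙 K)).comp (show Cochain K J q from z.1) (zero_add q)
  rw [Groth.Agent.Lib.Helper25.Bidual.ofHom_smul, Cochain.smul_comp]
  congr 1
  exact (Cochain.id_comp _).symm

/-- cocycles of `Hom•(K, J)` give morphisms in the derived category -/
noncomputable def Phi : LinearMap.ker (SC K J q).g.hom →ₗ[A] (Q.obj K ⟶ (Q.obj J)⟦q⟧) where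
  toFun z := kappa K J q (CohomologyClass.mk (coc K J q z))
  map_add' z z' := by
    rw [coc_add, CohomologyClass.mk_add, map_add]
  map_smul' a z := by
    rw [RingHom.id_apply, coc_smul, kappa_mk_precomp, Functor.map_smul,
      CategoryTheory.Functor.map_id, Linear.smul_comp, Category.id_comp]

variable [J.IsKInjective]

theorem Phi_surjective : Function.Surjective (Phi K J q) := by
  intro y
  obtain ⟨x, rfl⟩ := kappa_surjective K J q y
  refine ⟨⟨(show (DRing.homCx K J).X q from x.1), ?_⟩, ?_⟩
  · rw [LinearMap.mem_ker]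
    exact x.δ_eq_zero (q + 1)
  · rfl

theorem Phi_ker :
    LinearMap.ker (Phi K J q) = LinearMap.range (SC K J q).moduleCatToCycles := by
  ext z
  rw [LinearMap.mem_ker, LinearMap.mem_range]
  change kappa K J q (CohomologyClass.mk (coc K J q z)) = 0 ↔ _
  rw [kappa_mk_eq_zero_iff, mem_coboundaries_iff _ (q - 1) (by omega)]
  constructor
  · rintro ⟨y, hy⟩
    exact ⟨(show (DRing.homCx K J).X (q - 1) from y), Subtype.ext hy⟩
  · rintro ⟨y, hy⟩
    exact ⟨(show Cochain K J (q - 1) from y), congrArg Subtype.val hy⟩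

/-- `H^q(Hom•(K, J)) ≃ Hom_{D(A)}(K, J⟦q⟧)` -/
noncomputable def homologyEquiv :
    ((DRing.homCx K J).homology q) ≃ₗ[A] (Q.obj K ⟶ (Q.obj J)⟦q⟧) :=
  ((DRing.homCx K J).homologyIsoSc' (q - 1) q (q + 1) (by simp) (by simp) ≪≫
    (SC K J q).moduleCatHomologyIso).toLinearEquiv.trans
    ((Submodule.quotEquivOfEq _ _ (Phi_ker K J q).symm).trans
      ((Phi K J q).quotKerEquivOfSurjective (Phi_surjective K J q)))

end Groth.Agent.Lib.Helper39.LD.HomCxHom
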