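import Mathlib.Algebra.Homology.HomologySequenceLemmas

/-!
# Local consequences of the long exact sequence (helper39)
-/

set_option autoImplicit false
universe v u

namespace Groth.Agent.Lib.Helper39.LD.LocalLES

open CategoryTheory CategoryTheory.Limits HomologicalComplex

variable {C : Type u} [Category.{v} C] [Abelian C]
  {S : ShortComplex (CochainComplex C ℤ)} (hS : S.ShortExact)

include hS

/-- `H^n(f)` is an isomorphism if `H^{n-1}(X₃) = 0 = H^n(X₃)` -/
theorem isIso_homologyMap_f (n : ℤ) (h1 : IsZero (S.X₃.homology (n - 1)))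
    (h2 : IsZero (S.X₃.homology n)) : IsIso (homologyMap S.f n) := by
  have hij : (ComplexShape.up ℤ).Rel (n - 1) n := by simp
  haveI : Mono (homologyMap S.f n) :=
    (hS.homology_exact₁ (n - 1) n hij).mono_g (h1.eq_of_src _ _)
  haveI : Epi (homologyMap S.f n) :=
    (hS.homology_exact₂ n).epi_f (h2.eq_of_tgt _ _)
  exact isIso_of_mono_of_epi _

/-- `H^n(g)` is an isomorphism if `H^n(X₁) = 0 = H^{n+1}(X₁)` -/
theorem isIso_homologyMap_g (n : ℤ) (h1 : IsZero (S.X₁.homology n))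
    (h2 : IsZero (S.X₁.homology (n + 1))) : IsIso (homologyMap S.g n) := by
  have hij : (ComplexShape.up ℤ).Rel n (n + 1) := by simp
  haveI : Mono (homologyMap S.g n) :=
    (hS.homology_exact₂ n).mono_g (h1.eq_of_src _ _)
  haveI : Epi (homologyMap S.g n) :=
    (hS.homology_exact₃ n (n + 1) hij).epi_f (h2.eq_of_tgt _ _)
  exact isIso_of_mono_of_epi _

/-- `H^n(X₃) = 0` if `H^n(f)` is epi and `H^{n+1}(f)` is mono -/
theorem isZero_homology_X₃ (n : ℤ) (h1 : Epi (homologyMap S.f n))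
    (h2 : Mono (homologyMap S.f (n + 1))) : IsZero (S.X₃.homology n) := by
  rw [← exactAt_iff_isZero_homology]
  refine hS.exactAt_X₃ n h1 (fun j hj => ?_)
  have : n + 1 = j := hj
  subst this
  exact h2

omit hS in
/-- transfer of `IsIso H^n` from `τ₁` to `τ₂` -/
theorem isIso_τ₂_of_τ₁ {S₁ S₂ : ShortComplex (CochainComplex C ℤ)} (φ : S₁ ⟶ S₂)
    (hS₁ : S₁.ShortExact) (hS₂ : S₂.ShortExact) (n : ℤ)
    (h1 : IsZero (S₁.X₃.homology (n - 1))) (h2 : IsZero (S₁.X₃.homology n))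
    (h1' : IsZero (S₂.X₃.homology (n - 1))) (h2' : IsZero (S₂.X₃.homology n))
    (h : IsIso (homologyMap φ.τ₁ n)) : IsIso (homologyMap φ.τ₂ n) := by
  haveI := isIso_homologyMap_f hS₁ n h1 h2
  haveI := isIso_homologyMap_f hS₂ n h1' h2'
  have hc : homologyMap S₁.f n ≫ homologyMap φ.τ₂ n =
      homologyMap φ.τ₁ n ≫ homologyMap S₂.f n := by
    rw [← homologyMap_comp, ← homologyMap_comp, φ.comm₁₂]
  have : homologyMap φ.τ₂ n = inv (homologyMap S₁.f n) ≫
      homologyMap φ.τ₁ n ≫ homologyMap S₂.f n := by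
    rw [← hc, IsIso.inv_hom_id_assoc]
  rw [this]
  infer_instance

omit hS in
/-- transfer of `IsIso H^n` from `τ₃` to `τ₂` -/
theorem isIso_τ₂_of_τ₃ {S₁ S₂ : ShortComplex (CochainComplex C ℤ)} (φ : S₁ ⟶ S₂)
    (hS₁ : S₁.ShortExact) (hS₂ : S₂.ShortExact) (n : ℤ)
    (h1 : IsZero (S₁.X₁.homology n)) (h2 : IsZero (S₁.X₁.homology (n + 1)))
    (h1' : IsZero (S₂.X₁.homology n)) (h2' : IsZero (S₂.X₁.homology (n + 1)))
    (h : IsIso (homologyMap φ.τ₃ n)) : IsIso (homologyMap φ.τ₂ n) := by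
  haveI := isIso_homologyMap_g hS₁ n h1 h2
  haveI := isIso_homologyMap_g hS₂ n h1' h2'
  have hc : homologyMap S₁.g n ≫ homologyMap φ.τ₃ n =
      homologyMap φ.τ₂ n ≫ homologyMap S₂.g n := by
    rw [← homologyMap_comp, ← homologyMap_comp, φ.comm₂₃]
  have : homologyMap φ.τ₂ n = homologyMap S₁.g n ≫
      homologyMap φ.τ₃ n ≫ inv (homologyMap S₂.g n) := by
    rw [← Category.assoc, hc, Category.assoc, IsIso.hom_inv_id, Category.comp_id]
  rw [this]
  infer_instance

end Groth.Agent.Lib.Helper39.LD.LocalLES
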