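import Groth.Agent.Lib.Helper39.LD.BidualD
import Groth.Agent.Lib.Helper39.LD.HomCxHom
import Groth.Agent.Lib.Helper39.LD.LocalLES
import Groth.Agent.Lib.Helper84.HomFinite

/-!
# Biduality for unbounded complexes with finite cohomology (helper39)
-/

set_option autoImplicit false
universe u

namespace Groth.Agent.Lib.Helper39.LD.BidualUnb

open CategoryTheory CategoryTheory.Limits HomologicalComplex DerivedCategory
open CategoryTheory.Triangulated
open Groth.Agent.Lib.Helper25.HomCxPre Groth.Agent.Lib.Helper25.HomCxSplit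
open Groth.Agent.Lib.Helper25.Bidual
open Groth.Agent.Lib.Helper39.LD.EtaC Groth.Agent.Lib.Helper39.LD.BidualCx

attribute [local instance] HasDerivedCategory.standard

variable {A : Type u} [CommRing A] (J : DRing.Cx A) [J.IsKInjective] (a b : ℤ)
  (hJ : ∀ n, Injective (J.X n)) (hb : ∀ i, (i < a ∨ b < i) → IsZero (J.X i))

omit [J.IsKInjective] in
theorem isGE_Q_of_homology (Y : DRing.Cx A) (y : ℤ)
    (hY : ∀ i : ℤ, i < y → IsZero (Y.homology i)) : (Q.obj Y).IsGE y := by
  rw [isGE_iff]
  intro i hi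
  exact (hY i hi).of_iso ((DerivedCategory.homologyFunctorFactors (ModuleCat.{u} A) i).app Y)

omit [J.IsKInjective] in
theorem isLE_Q_of_homology (Y : DRing.Cx A) (y : ℤ)
    (hY : ∀ i : ℤ, y < i → IsZero (Y.homology i)) : (Q.obj Y).IsLE y := by
  rw [isLE_iff]
  intro i hi
  exact (hY i hi).of_iso ((DerivedCategory.homologyFunctorFactors (ModuleCat.{u} A) i).app Y)

include hJ hb

/-- if `Y` is cohomologically `≥ y` then `Hom•(Y, J)` is cohomologically `≤ b - y` -/
theorem isZero_homology_homCx_of_ge (Y : DRing.Cx A) (y : ℤ)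
    (hY : ∀ i : ℤ, i < y → IsZero (Y.homology i)) (m : ℤ) (hm : b - y < m) :
    IsZero ((DRing.homCx Y J).homology m) := by
  haveI := isGE_Q_of_homology Y y hY
  have hInj : DRing.HasInjAmplitudeIn A a b (Q.obj J) :=
    ⟨J, hb, fun n => (Module.injective_iff_injective_object A (J.X n)).2 (hJ n), ⟨Iso.refl _⟩⟩
  haveI : Subsingleton (Q.obj Y ⟶ (Q.obj J)⟦m⟧) := ⟨fun φ ψ => by
    rw [Groth.Agent.Lib.Helper84.HomFinite.hom_shift_eq_zero (Q.obj Y) y (Q.obj J) a b hInj m
        (by omega) φ,
      Groth.Agent.Lib.Helper84.HomFinite.hom_shift_eq_zero (Q.obj Y) y (Q.obj J) a b hInj m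
        (by omega) ψ]⟩
  haveI : Subsingleton ((DRing.homCx Y J).homology m) :=
    (HomCxHom.homologyEquiv Y J m).toEquiv.subsingleton
  exact ModuleCat.isZero_of_subsingleton _

/-- if `Y` is cohomologically `≤ y` then `Hom•(Y, J)` is cohomologically `≥ a - y` -/
theorem isZero_homology_homCx_of_le (Y : DRing.Cx A) (y : ℤ)
    (hY : ∀ i : ℤ, y < i → IsZero (Y.homology i)) (m : ℤ) (hm : m < a - y) :
    IsZero ((DRing.homCx Y J).homology m) := by
  haveI := isLE_Q_of_homology Y y hY
  haveI : (Q.obj J).IsGE a := isGE_Q_of_homology J a (fun i hi => by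
    rw [← exactAt_iff_isZero_homology]
    exact ShortComplex.exact_of_isZero_X₂ _ (hb i (Or.inl hi)))
  haveI : ((Q.obj J)⟦m⟧).IsGE (a - m) := TStructure.t.isGE_shift (Q.obj J) a m (a - m) (by omega)
  haveI : Subsingleton (Q.obj Y ⟶ (Q.obj J)⟦m⟧) := ⟨fun φ ψ => by
    rw [TStructure.t.zero φ y (a - m) (by omega), TStructure.t.zero ψ y (a - m) (by omega)]⟩
  haveI : Subsingleton ((DRing.homCx Y J).homology m) :=
    (HomCxHom.homologyEquiv Y J m).toEquiv.subsingleton
  exact ModuleCat.isZero_of_subsingleton _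

/-- the double dual of a complex which is cohomologically `≥ y` is `≥ y - (b - a)` -/
theorem isZero_homology_DD_of_ge (Y : DRing.Cx A) (y : ℤ)
    (hY : ∀ i : ℤ, i < y → IsZero (Y.homology i)) (m : ℤ) (hm : m < y - (b - a)) :
    IsZero ((DRing.homCx (DRing.homCx Y J) J).homology m) :=
  isZero_homology_homCx_of_le J a b hJ hb (DRing.homCx Y J) (b - y)
    (fun i hi => isZero_homology_homCx_of_ge J a b hJ hb Y y hY i hi) m (by omega)

/-- the double dual of a complex which is cohomologically `≤ y` is `≤ y + (b - a)` -/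
theorem isZero_homology_DD_of_le (Y : DRing.Cx A) (y : ℤ)
    (hY : ∀ i : ℤ, y < i → IsZero (Y.homology i)) (m : ℤ) (hm : y + (b - a) < m) :
    IsZero ((DRing.homCx (DRing.homCx Y J) J).homology m) :=
  isZero_homology_homCx_of_ge J a b hJ hb (DRing.homCx Y J) (a - y)
    (fun i hi => isZero_homology_homCx_of_le J a b hJ hb Y y hY i hi) m (by omega)

omit hb in
/-- transfer of `IsIso H^n(η)` from `X₁` to `X₂` -/
theorem isIso_eta_X₂_of_X₁ (S : ShortComplex (DRing.Cx A)) (hS : S.ShortExact) (n : ℤ)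
    (h1 : IsZero (S.X₃.homology (n - 1))) (h2 : IsZero (S.X₃.homology n))
    (h1' : IsZero ((DRing.homCx (DRing.homCx S.X₃ J) J).homology (n - 1)))
    (h2' : IsZero ((DRing.homCx (DRing.homCx S.X₃ J) J).homology n))
    (h : IsIso (homologyMap (etaC J S.X₁) n)) : IsIso (homologyMap (etaC J S.X₂) n) :=
  LocalLES.isIso_τ₂_of_τ₁ (etaSC J S) hS
    (shortExact_preSC J _ (shortExact_preSC J S hS hJ) hJ) n h1 h2 h1' h2' h

omit hb in
/-- transfer of `IsIso H^n(η)` from `X₃` to `X₂` -/
theorem isIso_eta_X₂_of_X₃ (S : ShortComplex (DRing.Cx A)) (hS : S.ShortExact) (n : ℤ)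
    (h1 : IsZero (S.X₁.homology n)) (h2 : IsZero (S.X₁.homology (n + 1)))
    (h1' : IsZero ((DRing.homCx (DRing.homCx S.X₁ J) J).homology n))
    (h2' : IsZero ((DRing.homCx (DRing.homCx S.X₁ J) J).homology (n + 1)))
    (h : IsIso (homologyMap (etaC J S.X₃) n)) : IsIso (homologyMap (etaC J S.X₂) n) :=
  LocalLES.isIso_τ₂_of_τ₃ (etaSC J S) hS
    (shortExact_preSC J _ (shortExact_preSC J S hS hJ) hJ) n h1 h2 h1' h2' h

section Trunc

omit [J.IsKInjective] hJ hb

variable (K : DRing.Cx A) (d : ℤ)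

theorem isIso_homologyMap_ι (i : ℤ) (hi : i ≤ d) :
    IsIso (homologyMap (K.shortComplexTruncLE d).f i) := by
  have := K.quasiIsoAt_ιTruncLE d i hi
  exact (quasiIsoAt_iff_isIso_homologyMap (K.ιTruncLE d) i).1 this

theorem isZero_homology_truncLE (i : ℤ) (hi : d < i) :
    IsZero ((K.shortComplexTruncLE d).X₁.homology i) := by
  rw [← exactAt_iff_isZero_homology]
  exact ShortComplex.exact_of_isZero_X₂ _ ((K.truncLE d).isZero_of_isStrictlyLE d i hi)

theorem isZero_homology_coker (i : ℤ) (hi : i ≤ d) :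
    IsZero ((K.shortComplexTruncLE d).X₃.homology i) := by
  have hS := K.shortComplexTruncLE_shortExact d
  haveI := isIso_homologyMap_ι K d i hi
  refine LocalLES.isZero_homology_X₃ hS i inferInstance ?_
  by_cases h : i + 1 ≤ d
  · haveI := isIso_homologyMap_ι K d (i + 1) h
    infer_instance
  · exact ⟨fun _ _ _ => (isZero_homology_truncLE K d (i + 1) (by omega)).eq_of_tgt _ _⟩

theorem isIso_homologyMap_π (i : ℤ) (hi : d < i) :
    IsIso (homologyMap (K.shortComplexTruncLE d).g i) :=
  LocalLES.isIso_homologyMap_g (K.shortComplexTruncLE_shortExact d) i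
    (isZero_homology_truncLE K d i hi) (isZero_homology_truncLE K d (i + 1) (by omega))

end Trunc

section Main

variable [IsNoetherianRing A] (hωJ : Dual.IsDualizing A (Q.obj J))
include hωJ

/-- biduality for a complex all of whose cohomology modules are finite -/
theorem quasiIso_etaC_of_finite (K : DRing.Cx A)
    (hfin : ∀ i : ℤ, Module.Finite A (K.homology i)) : QuasiIso (etaC J K) := by
  rw [quasiIso_iff]
  intro n
  rw [quasiIsoAt_iff_isIso_homologyMap]
  obtain ⟨w, hw1, hw0⟩ : ∃ w : ℤ, b - a ≤ w ∧ 0 ≤ w :=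
    ⟨max (b - a) 0, le_max_left _ _, le_max_right _ _⟩
  -- first truncation
  let d : ℤ := n + w + 2
  let S := K.shortComplexTruncLE d
  have hS : S.ShortExact := K.shortComplexTruncLE_shortExact d
  have hC : ∀ i : ℤ, i < d + 1 → IsZero (S.X₃.homology i) := fun i hi =>
    isZero_homology_coker K d i (by omega)
  refine isIso_eta_X₂_of_X₁ J hJ S hS n (hC _ (by omega)) (hC _ (by omega))
    (isZero_homology_DD_of_ge J a b hJ hb S.X₃ (d + 1) hC _ (by omega))
    (isZero_homology_DD_of_ge J a b hJ hb S.X₃ (d + 1) hC _ (by omega)) ?_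
  -- the cohomology of `K' = τ≤d K`
  let K' : DRing.Cx A := S.X₁
  have hK'fin : ∀ i : ℤ, Module.Finite A (K'.homology i) := fun i => by
    by_cases hi : i ≤ d
    · haveI := isIso_homologyMap_ι K d i hi
      haveI : Module.Finite A (S.X₂.homology i) := hfin i
      exact Module.Finite.equiv (asIso (homologyMap S.f i)).toLinearEquiv.symm
    · exact Groth.Agent.Lib.Helper84.HomFinite.finite_of_isZero (isZero_homology_truncLE K d i (by omega))
  -- second truncation
  let c : ℤ := n - w - 2
  let S' := K'.shortComplexTruncLE (c - 1)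
  have hS' : S'.ShortExact := K'.shortComplexTruncLE_shortExact (c - 1)
  have hB : ∀ i : ℤ, c - 1 < i → IsZero (S'.X₁.homology i) := fun i hi =>
    isZero_homology_truncLE K' (c - 1) i hi
  refine isIso_eta_X₂_of_X₃ J hJ S' hS' n (hB _ (by omega)) (hB _ (by omega))
    (isZero_homology_DD_of_le J a b hJ hb S'.X₁ (c - 1) hB _ (by omega))
    (isZero_homology_DD_of_le J a b hJ hb S'.X₁ (c - 1) hB _ (by omega)) ?_
  -- the bounded piece
  have hQ : QuasiIso (etaC J S'.X₃) := by
    refine BidualD.quasiIso_etaC J a b hJ hb hωJ S'.X₃ c d (fun i hi => ?_) (fun i => ?_)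
    · rcases hi with hi | hi
      · exact isZero_homology_coker K' (c - 1) i (by omega)
      · haveI := isIso_homologyMap_π K' (c - 1) i (by omega)
        exact (isZero_homology_truncLE K d i hi).of_iso (asIso (homologyMap S'.g i)).symm
    · by_cases hi : i ≤ c - 1
      · exact Groth.Agent.Lib.Helper84.HomFinite.finite_of_isZero (isZero_homology_coker K' (c - 1) i hi)
      · haveI := isIso_homologyMap_π K' (c - 1) i (by omega)
        haveI : Module.Finite A (S'.X₂.homology i) := hK'fin i
        exact Module.Finite.equiv (asIso (homologyMap S'.g i)).toLinearEquiv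
  exact (quasiIsoAt_iff_isIso_homologyMap _ n).1 inferInstance

end Main

end Groth.Agent.Lib.Helper39.LD.BidualUnb
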