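import Groth.Agent.Lib.Helper39.LD.BidualMod
import Groth.Agent.Lib.Helper84.Devissage
import Mathlib.Algebra.Homology.DerivedCategory.Fractions

/-!
# Biduality for bounded complexes with finite cohomology (helper39)

`K ⟶ Hom•(Hom•(K, J), J)` is a quasi-isomorphism if `J` is a bounded complex of injectives
representing a dualizing complex and `K` has bounded finite cohomology.
-/

set_option autoImplicit false
universe u

namespace Groth.Agent.Lib.Helper39.LD.BidualD

open CategoryTheory CategoryTheory.Limits HomologicalComplex DerivedCategory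
open CategoryTheory.Pretriangulated ZeroObject
open Groth.Agent.Lib.Helper39.LD.EtaC Groth.Agent.Lib.Helper39.LD.BidualCx
open Groth.Agent.Lib.Helper39.LD.BidualMod

attribute [local instance] HasDerivedCategory.standard

variable {A : Type u} [CommRing A] (J : DRing.Cx A) [J.IsKInjective]

theorem refl_of_Q_iso {K K' : DRing.Cx A} (e : Q.obj K ≅ Q.obj K') (h : Refl J K) :
    Refl J K' := by
  obtain ⟨X', s, hs, g, hfac⟩ := DerivedCategory.right_fac e.hom
  haveI : QuasiIso s := (DerivedCategory.isIso_Q_map_iff_quasiIso (φ := s)).1 hs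
  have hg : IsIso (Q.map g) := by
    have : Q.map g = Q.map s ≫ e.hom := by rw [hfac, IsIso.hom_inv_id_assoc]
    rw [this]
    infer_instance
  haveI : QuasiIso g := (DerivedCategory.isIso_Q_map_iff_quasiIso (φ := g)).1 hg
  exact (refl_iff_of_quasiIso J g).1 ((refl_iff_of_quasiIso J s).2 h)

/-- the property on `D(A)` -/
def ReflD : ObjectProperty (Dual.D A) :=
  fun M => ∀ K : DRing.Cx A, Nonempty (Q.obj K ≅ M) → Refl J K

instance : (ReflD J).IsClosedUnderIsomorphisms :=
  ⟨fun e h K ⟨eK⟩ => h K ⟨eK ≪≫ e.symm⟩⟩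

theorem reflD_Q {K : DRing.Cx A} (h : Refl J K) : ReflD J (Q.obj K) :=
  fun _ ⟨e⟩ => refl_of_Q_iso J e.symm h

theorem reflD_zero (M : Dual.D A) (hM : IsZero M) : ReflD J M := by
  rintro K ⟨e⟩
  have h0 : IsZero (Q.obj (0 : DRing.Cx A)) := Functor.map_isZero Q (isZero_zero _)
  exact refl_of_Q_iso J (h0.iso (hM.of_iso e)) (refl_of_isZero J (isZero_zero _))

section

variable (hJ : ∀ n, Injective (J.X n))
include hJ

theorem reflD_ext (T : Triangle (Dual.D A)) (hT : T ∈ distTriang _) (h₁ : ReflD J T.obj₁)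
    (h₃ : ReflD J T.obj₃) : ReflD J T.obj₂ := by
  obtain ⟨X, Y, φ, ⟨e⟩⟩ := (DerivedCategory.mem_distTriang_iff T).1 hT
  have e₁ : T.obj₁ ≅ Q.obj X := Triangle.π₁.mapIso e
  have e₂ : T.obj₂ ≅ Q.obj Y := Triangle.π₂.mapIso e
  have e₃ : T.obj₃ ≅ Q.obj (CochainComplex.mappingCone φ) := Triangle.π₃.mapIso e
  have hX : Refl J X := h₁ X ⟨e₁.symm⟩
  have hC : Refl J (CochainComplex.mappingCone φ) := h₃ _ ⟨e₃.symm⟩
  have hY : Refl J Y := refl_X₁ J hJ (CochainComplex.mappingCone.triangleRotateShortComplex φ)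
    (shortExact_triangleRotate φ) hC (refl_shift_one J hJ X hX)
  rintro K ⟨eK⟩
  exact refl_of_Q_iso J (e₂.symm ≪≫ eK.symm) hY

end

section Main

variable [IsNoetherianRing A] (a b : ℤ) (hJ : ∀ n, Injective (J.X n))
  (hb : ∀ i, (i < a ∨ b < i) → IsZero (J.X i))
  (hωJ : Dual.IsDualizing A (Q.obj J))
include hJ hb hωJ

theorem reflD_single (N : ModuleCat.{u} A) [Module.Finite A N] (n : ℤ) :
    ReflD J ((DerivedCategory.singleFunctor (ModuleCat.{u} A) n).obj N) := by
  have h0 : Refl J (S0 N) := refl_S0 J a b hJ hb hωJ N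
  have h1 : Refl J ((S0 N)⟦-n⟧) := refl_shift J hJ _ h0 (-n)
  have e : (S0 N)⟦-n⟧ ≅ (CochainComplex.singleFunctor (ModuleCat.{u} A) n).obj N :=
    ((CochainComplex.singleFunctors (ModuleCat.{u} A)).shiftIso (-n) n 0 (by omega)).app N
  have h2 := refl_of_iso J e h1
  exact (ReflD J).prop_of_iso
    ((DerivedCategory.singleFunctorIsoCompQ (ModuleCat.{u} A) n).app N).symm (reflD_Q J h2)

theorem reflD_of_bounded_finite (M : Dual.D A) (a' b' : ℤ)
    (hM : ∀ i : ℤ, i < a' ∨ b' < i →
      IsZero ((DerivedCategory.homologyFunctor (ModuleCat.{u} A) i).obj M))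
    (hfin : ∀ i : ℤ, Module.Finite A
      ((DerivedCategory.homologyFunctor (ModuleCat.{u} A) i).obj M)) : ReflD J M :=
  Groth.Agent.Lib.Helper84.Devissage.prop_of_bounded_homology (ReflD J)
    (reflD_zero J) (reflD_ext J hJ) M a' b' hM
    (fun i => by
      haveI := hfin i
      exact reflD_single J a b hJ hb hωJ _ i)

theorem quasiIso_etaC (K : DRing.Cx A) (a' b' : ℤ)
    (hK : ∀ i : ℤ, i < a' ∨ b' < i → IsZero (K.homology i))
    (hfin : ∀ i : ℤ, Module.Finite A (K.homology i)) : QuasiIso (etaC J K) := by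
  have e : ∀ i : ℤ, (DerivedCategory.homologyFunctor (ModuleCat.{u} A) i).obj (Q.obj K) ≅
      K.homology i := fun i =>
    (DerivedCategory.homologyFunctorFactors (ModuleCat.{u} A) i).app K
  refine reflD_of_bounded_finite J a b hJ hb hωJ (Q.obj K) a' b'
    (fun i hi => (hK i hi).of_iso (e i)) (fun i => ?_) K ⟨Iso.refl _⟩
  haveI := hfin i
  exact Module.Finite.equiv (e i).toLinearEquiv.symm

end Main

end Groth.Agent.Lib.Helper39.LD.BidualD
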