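import Groth.Agent.Lib.Helper39.LD.Main
import Groth.Agent.Lib.Helper39.LD.BidualD
import Groth.Agent.Lib.Helper39.LD.HomCxHom
import Groth.Agent.Lib.Helper84.HomFinite

/-!
# Grothendieck local duality for bounded complexes with finite cohomology (helper39)

`H^i_m(M) ≃ Hom_A(Hom_{D(A)}(M, ω[-i]), E)` for `M ∈ D^b_{fg}(A)`.
-/

set_option autoImplicit false
universe u

namespace Groth.Agent.Lib.Helper39.LD

open CategoryTheory CategoryTheory.Limits DerivedCategory HomologicalComplex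
open Groth.Agent.Lib.Helper25.Bidual Groth.Agent.Lib.Helper25.LocColim
open Groth.Agent.Lib.Helper25.LocDual Groth.Agent.Lib.Helper25.HomCxPre
open Groth.Agent.Lib.Helper39.Dual

attribute [local instance] HasDerivedCategory.standard

variable {A : Type u} [CommRing A] [IsLocalRing A] [IsNoetherianRing A]

theorem localDualityCx (ω : Dual.D A) (hω : Dual.IsDualizing A ω) (hn : Dual.IsNormalized A ω)
    (E : Type u) [AddCommGroup E] [Module A E] (f : IsLocalRing.ResidueField A →ₗ[A] E)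
    (hf : InjHull.IsInjectiveHull f) (M : Dual.D A)
    (hfin : ∀ i : ℤ, Module.Finite A (Dual.HD A M i))
    (hbd : ∃ a b : ℤ, ∀ i : ℤ, (i < a ∨ b < i) → Subsingleton (Dual.HD A M i)) (i : ℤ) :
    Nonempty (Dual2.HDI A (IsLocalRing.maximalIdeal A) M i ≃ₗ[A]
      ((M ⟶ ω⟦(-i)⟧) →ₗ[A] E)) := by
  obtain ⟨J, a, b, hJ, hb, ⟨eJ⟩⟩ := exists_bounded_injective_model ω hω
  haveI : J.IsStrictlyGE a := by
    rw [CochainComplex.isStrictlyGE_iff]
    intro q hq
    exact hb q (Or.inl hq)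
  haveI : J.IsKInjective := CochainComplex.isKInjective_of_injective J a
  have hωJ : Dual.IsDualizing A (Q.obj J) := isDualizing_of_iso eJ.symm hω
  let 𝔪 := IsLocalRing.maximalIdeal A
  obtain ⟨c, d, hcd⟩ := hbd
  haveI : M.IsGE c := by
    rw [isGE_iff]
    intro j hj
    haveI := hcd j (Or.inl hj)
    exact ModuleCat.isZero_of_subsingleton _
  obtain ⟨K, hK, ⟨eK⟩⟩ := DerivedCategory.exists_iso_Q_obj_of_isGE M c
  let X : DRing.Cx A := DRing.homCx K J
  let eX : ∀ q : ℤ, X.homology q ≃ₗ[A] (M ⟶ ω⟦q⟧) := fun q =>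
    (HomCxHom.homologyEquiv K J q).trans
      (Linear.homCongr A eK.symm ((shiftFunctor (Dual.D A) q).mapIso eJ))
  have hInj : DRing.HasInjAmplitudeIn A a b ω :=
    ⟨J, hb, fun n => (Module.injective_iff_injective_object A (J.X n)).2 (hJ n), ⟨eJ⟩⟩
  have hXfin : ∀ q : ℤ, Module.Finite A (Dual.HD A (Q.obj X) q) := fun q => by
    haveI := Groth.Agent.Lib.Helper84.HomFinite.finite_hom M ω hfin hω.finite_cohomology
      ⟨a, b, hInj⟩ q
    haveI : Module.Finite A (X.homology q) := Module.Finite.equiv (eX q).symm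
    let e' : X.homology q ≃ₗ[A] Dual.HD A (Q.obj X) q :=
      ((DerivedCategory.homologyFunctorFactors (ModuleCat.{u} A) q).app X).toLinearEquiv.symm
    exact Module.Finite.equiv e'
  have hXbd : ∀ q : ℤ, b - c < q → Subsingleton (Dual.HD A (Q.obj X) q) := fun q hq => by
    haveI : Subsingleton (M ⟶ ω⟦q⟧) := ⟨fun φ ψ => by
      rw [Groth.Agent.Lib.Helper84.HomFinite.hom_shift_eq_zero M c ω a b hInj q (by omega) φ,
        Groth.Agent.Lib.Helper84.HomFinite.hom_shift_eq_zero M c ω a b hInj q (by omega) ψ]⟩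
    haveI : Subsingleton (X.homology q) := (eX q).toEquiv.subsingleton
    let e' : Dual.HD A (Q.obj X) q ≃ₗ[A] X.homology q :=
      ((DerivedCategory.homologyFunctorFactors (ModuleCat.{u} A) q).app X).toLinearEquiv
    exact e'.toEquiv.subsingleton
  -- a finite free resolution of `X`
  have hpc : ∀ m : ℤ, DRing.IsPseudoCoherent A m (Q.obj X) := fun m =>
    ((Groth.Agent.S6942.result A m (Q.obj X) A).1).2 ⟨⟨b - c, hXbd⟩, fun q _ => hXfin q⟩
  obtain ⟨P, bP, hPb, hPff, ⟨eP⟩⟩ := (Groth.Agent.S2066.result (Q.obj X)).1.1 hpc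
  haveI : P.IsKProjective :=
    Groth.Agent.Lib.Helper84.DRingPC.isKProjective_of_finiteFree P bP hPb hPff
  obtain ⟨u, hu⟩ := Groth.Agent.Lib.Helper84.KProj.exists_Q_map_eq P X eP.hom
  haveI : QuasiIso u := by
    rw [← DerivedCategory.isIso_Q_map_iff_quasiIso, hu]
    infer_instance
  -- the K-injective resolution `L = Hom•(P, J)` of `M`
  have hKF : Groth.Agent.Lib.Helper25.KFlat.IsKFlat P :=
    Groth.Agent.Lib.Helper25.KFlat.isKFlat_of_boundedAbove_of_flat P bP hPb (fun q => by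
      haveI := (hPff q).2
      infer_instance)
  let L : DRing.Cx A := DRing.homCx P J
  haveI : L.IsKInjective := Groth.Agent.Lib.Helper25.RHomTensor.isKInjective_homCx P J hKF
  have eH : ∀ j : ℤ, (DerivedCategory.homologyFunctor (ModuleCat.{u} A) j).obj M ≅
      K.homology j := fun j =>
    (DerivedCategory.homologyFunctor (ModuleCat.{u} A) j).mapIso eK ≪≫
      (DerivedCategory.homologyFunctorFactors (ModuleCat.{u} A) j).app K
  have hq : QuasiIso (EtaC.etaC J K) :=
    BidualD.quasiIso_etaC J a b hJ hb hωJ K c d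
      (fun j hj => by
        haveI := hcd j hj
        exact (ModuleCat.isZero_of_subsingleton _).of_iso (eH j).symm)
      (fun j => by
        haveI := hfin j
        exact Module.Finite.equiv (eH j).toLinearEquiv)
  haveI : QuasiIso (homCxPre u J) := Groth.Agent.Lib.Helper25.RHomKInj.quasiIso_homCxPre u J
  let w : K ⟶ L := EtaC.etaC J K ≫ homCxPre u J
  haveI : IsIso (Q.map w) := by
    have h1 : IsIso (Q.map (EtaC.etaC J K)) :=
      (DerivedCategory.isIso_Q_map_iff_quasiIso _ _).2 hq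
    have h2 : IsIso (Q.map (homCxPre u J)) :=
      (DerivedCategory.isIso_Q_map_iff_quasiIso _ _).2 inferInstance
    rw [Functor.map_comp]
    exact IsIso.comp_isIso' h1 h2
  let eL : Q.obj L ≅ M := (asIso (Q.map w)).symm ≪≫ eK.symm
  -- the chain of equivalences
  let e2 : Dual2.HDI A 𝔪 M i ≃ₗ[A] ((gam 𝔪 L).homology i) :=
    hdiEquivHomology 𝔪 L M eL i
  let G : DRing.Cx A := gam 𝔪 J
  let e3 : ((gam 𝔪 L).homology i) ≃ₗ[A] ((DRing.homCx P G).homology i) :=
    ((HomologicalComplex.homologyFunctor (ModuleCat.{u} A) (ComplexShape.up ℤ) i).mapIso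
      (gamHomIso 𝔪 P J (fun p => (hPff p).1) bP hPb a (fun q hq => hb q (Or.inl hq)))).symm.toLinearEquiv
  -- `Γ_m J ≃ E[0]`
  let EE : ModuleCat.{u} A := ModuleCat.of A E
  haveI : Injective EE := (Module.injective_iff_injective_object A E).1 hf.isInjective
  obtain ⟨⟨e0⟩, hvan⟩ := Groth.Agent.S1718.result A ω hω hn E f hf
  let eG : G.homology 0 ≅ EE := ((hdiEquivHomology 𝔪 J ω eJ 0).symm.trans e0).toModuleIso
  have hGvan : ∀ j : ℤ, j ≠ 0 → IsZero (G.homology j) := fun j hj => by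
    haveI := hvan j hj
    haveI : Subsingleton (G.homology j) := (hdiEquivHomology 𝔪 J ω eJ j).symm.toEquiv.subsingleton
    exact ModuleCat.isZero_of_subsingleton _
  haveI : QuasiIso (toSgl G EE eG) := quasiIso_toSgl G EE eG hGvan
  haveI : QuasiIso (DRing.homCxMap P (toSgl G EE eG)) :=
    Groth.Agent.Lib.Helper25.HomCxQis.quasiIso_homCxMap P _
  haveI : IsIso (HomologicalComplex.homologyMap (DRing.homCxMap P (toSgl G EE eG)) i) :=
    (quasiIsoAt_iff_isIso_homologyMap _ i).1 inferInstance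
  let e4 : ((DRing.homCx P G).homology i) ≃ₗ[A] ((DRing.homCx P (Sg EE)).homology i) :=
    (asIso (HomologicalComplex.homologyMap (DRing.homCxMap P (toSgl G EE eG)) i)).toLinearEquiv
  have hmn : -i + i = 0 := by omega
  let e5 : ((DRing.homCx P (Sg EE)).homology i) ≃ₗ[A] (P.homology (-i) ⟶ EE) :=
    homologyEquivSgl P EE hmn
  haveI : IsIso (HomologicalComplex.homologyMap u (-i)) :=
    (quasiIsoAt_iff_isIso_homologyMap _ _).1 inferInstance
  let e6 : (P.homology (-i) ⟶ EE) ≃ₗ[A] (X.homology (-i) ⟶ EE) :=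
    Linear.homCongr A (asIso (HomologicalComplex.homologyMap u (-i))) (Iso.refl EE)
  let e7 : (X.homology (-i) ⟶ EE) ≃ₗ[A] (X.homology (-i) →ₗ[A] E) :=
    ModuleCat.homLinearEquiv (S := A)
  let e8 : (X.homology (-i) →ₗ[A] E) ≃ₗ[A] ((M ⟶ ω⟦(-i)⟧) →ₗ[A] E) :=
    LinearEquiv.arrowCongr (eX (-i)) (LinearEquiv.refl A E)
  exact ⟨e2.trans (e3.trans (e4.trans (e5.trans (e6.trans (e7.trans e8)))))⟩

end Groth.Agent.Lib.Helper39.LD
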