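import Mathlib
import Groth.Prelude.Def_DRing4

/-!
# `H^n(Hom•(Y, E[0])) ≃ Hom(H^{-n}(Y), E)` for an injective module `E` (helper39)
-/

set_option autoImplicit false
universe u

namespace Groth.Agent.Lib.Helper39.LD

open CategoryTheory CategoryTheory.Limits HomologicalComplex CochainComplex CochainComplex.HomComplex

variable {A : Type u} [CommRing A] (Y : DRing.Cx A) (E : ModuleCat.{u} A)

/-- `E` in degree `0` -/
noncomputable abbrev Sg : DRing.Cx A := (single (ModuleCat.{u} A) (ComplexShape.up ℤ) 0).obj E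

/-- the identification of the degree `0` term -/
noncomputable abbrev sig : (Sg E).X 0 ≅ E := singleObjXSelf (ComplexShape.up ℤ) 0 E

theorem isZero_Sg_X (q : ℤ) (hq : q ≠ 0) : IsZero ((Sg E).X q) := isZero_single_obj_X _ _ _ _ hq

variable {Y E}
variable {n m : ℤ} (hmn : m + n = 0)

include hmn in
theorem cochain_ext (z z' : Cochain Y (Sg E) n) (h : z.v m 0 hmn = z'.v m 0 hmn) : z = z' := by
  refine Cochain.ext _ _ (fun p q hpq => ?_)
  by_cases hq : q = 0
  · subst hq
    obtain rfl : p = m := by omega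
    exact h
  · exact (isZero_Sg_X E q hq).eq_of_tgt _ _

theorem eq_single (z : Cochain Y (Sg E) n) : z = Cochain.single (z.v m 0 hmn) n :=
  cochain_ext hmn _ _ (by rw [Cochain.single_v])

theorem δ_single_Sg (g : Y.X m ⟶ (Sg E).X 0) (m' : ℤ) (hm' : m' + 1 = m) (n'' : ℤ)
    (hn'' : n + 1 = n'') :
    δ n n'' (Cochain.single g n) = n''.negOnePow • Cochain.single (Y.d m' m ≫ g) n'' := by
  rw [Cochain.δ_single g n n'' hn'' m' 1 hm' (zero_add 1), single_obj_d, comp_zero,
    Cochain.single_zero, zero_add]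

/-- the cocycle condition -/
theorem d_comp_of_cocycle (z : Cochain Y (Sg E) n) (n'' : ℤ) (hn'' : n + 1 = n'')
    (hz : δ n n'' z = 0) (m' : ℤ) (hm' : m' + 1 = m) : Y.d m' m ≫ z.v m 0 hmn = 0 := by
  rw [eq_single hmn z, δ_single_Sg _ m' hm' n'' hn''] at hz
  have h1 := congrArg (fun c : Cochain Y (Sg E) n'' => c.v m' 0 (by omega)) hz
  simp only [Cochain.units_smul_v, Cochain.zero_v] at h1
  rw [Cochain.single_v] at h1
  exact (smul_eq_zero_iff_eq _).1 h1

variable (Y E)

/-- evaluation of a cochain at its only relevant component -/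
noncomputable def evL : Cochain Y (Sg E) n →ₗ[A] (Y.X m ⟶ E) where
  toFun z := z.v m 0 hmn ≫ (sig E).hom
  map_add' z z' := by rw [Cochain.add_v, Preadditive.add_comp]
  map_smul' a z := by
    rw [Cochain.smul_v, Linear.smul_comp]
    rfl

theorem evL_single (g : Y.X m ⟶ E) :
    evL Y E hmn (Cochain.single (g ≫ (sig E).inv) n) = g := by
  change (Cochain.single (g ≫ (sig E).inv) n).v m 0 hmn ≫ (sig E).hom = g
  rw [Cochain.single_v, Category.assoc, Iso.inv_hom_id, Category.comp_id]

theorem single_evL (z : Cochain Y (Sg E) n) :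
    Cochain.single (evL Y E hmn z ≫ (sig E).inv) n = z := by
  change Cochain.single ((z.v m 0 hmn ≫ (sig E).hom) ≫ (sig E).inv) n = z
  rw [Category.assoc, Iso.hom_inv_id, Category.comp_id]
  exact (eq_single hmn z).symm

/-- the short complex of `Y` at `m` -/
noncomputable abbrev SCY (m : ℤ) : ShortComplex (ModuleCat.{u} A) := Y.sc' (m - 1) m (m + 1)

/-- the short complex of `Hom•(Y, E[0])` at `n` -/
noncomputable abbrev SCC (n : ℤ) : ShortComplex (ModuleCat.{u} A) :=
  (DRing.homCx Y (Sg E)).sc' (n - 1) n (n + 1)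

/-- concrete model of `H^m(Y)` -/
abbrev HY (m : ℤ) : Type u :=
  LinearMap.ker (SCY Y m).g.hom ⧸ LinearMap.range (SCY Y m).moduleCatToCycles

theorem mem_ker_SCC (z : Cochain Y (Sg E) n) :
    (show (SCC Y E n).X₂ from z) ∈ LinearMap.ker (SCC Y E n).g.hom ↔ δ n (n + 1) z = 0 := by
  rw [LinearMap.mem_ker]
  rfl

theorem evL_kills (z : Cochain Y (Sg E) n) (hz : δ n (n + 1) z = 0)
    (c : LinearMap.ker (SCY Y m).g.hom)
    (hc : c ∈ LinearMap.range (SCY Y m).moduleCatToCycles) :
    (evL Y E hmn z).hom c.1 = 0 := by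
  obtain ⟨y', rfl⟩ := hc
  have h1 := d_comp_of_cocycle hmn z (n + 1) rfl hz (m - 1) (by omega)
  have h2 : Y.d (m - 1) m ≫ evL Y E hmn z = 0 := by
    change Y.d (m - 1) m ≫ z.v m 0 hmn ≫ (sig E).hom = 0
    rw [← Category.assoc, h1, zero_comp]
  exact ConcreteCategory.congr_hom h2 y'

/-- cocycles give maps on cohomology -/
noncomputable def PhiS : LinearMap.ker (SCC Y E n).g.hom →ₗ[A] (ModuleCat.of A (HY Y m) ⟶ E) where
  toFun z := ModuleCat.ofHom (Submodule.liftQ _
    ((evL Y E hmn z.1).hom ∘ₗ (LinearMap.ker (SCY Y m).g.hom).subtype) (fun c hc => by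
      rw [LinearMap.mem_ker]
      exact evL_kills Y E hmn z.1 ((mem_ker_SCC Y E z.1).1 z.2) c hc))
  map_add' z z' := by
    refine ModuleCat.hom_ext (LinearMap.ext fun c => ?_)
    obtain ⟨c, rfl⟩ := Submodule.Quotient.mk_surjective _ c
    exact congrArg (fun φ : Y.X m ⟶ E => φ.hom c.1)
      (map_add (evL Y E hmn) (show Cochain Y (Sg E) n from z.1)
        (show Cochain Y (Sg E) n from z'.1))
  map_smul' a z := by
    refine ModuleCat.hom_ext (LinearMap.ext fun c => ?_)
    obtain ⟨c, rfl⟩ := Submodule.Quotient.mk_surjective _ c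
    exact congrArg (fun φ : Y.X m ⟶ E => φ.hom c.1)
      (map_smul (evL Y E hmn) a (show Cochain Y (Sg E) n from z.1))

theorem PhiS_apply (z : LinearMap.ker (SCC Y E n).g.hom) (c : LinearMap.ker (SCY Y m).g.hom) :
    (PhiS Y E hmn z).hom (Submodule.Quotient.mk c) = (evL Y E hmn z.1).hom c.1 := rfl

variable [Injective E]

theorem PhiS_surjective : Function.Surjective (PhiS Y E hmn) := by
  intro φ
  let κ : ModuleCat.of A (LinearMap.ker (SCY Y m).g.hom) ⟶ Y.X m :=
    ModuleCat.ofHom (LinearMap.ker (SCY Y m).g.hom).subtype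
  haveI : Mono κ := (ModuleCat.mono_iff_injective _).2 (Submodule.subtype_injective _)
  let ρ : ModuleCat.of A (LinearMap.ker (SCY Y m).g.hom) ⟶ ModuleCat.of A (HY Y m) :=
    ModuleCat.ofHom (Submodule.mkQ _)
  let f : Y.X m ⟶ E := Injective.factorThru (ρ ≫ φ) κ
  have hf : κ ≫ f = ρ ≫ φ := Injective.comp_factorThru _ _
  have hfc : ∀ c : LinearMap.ker (SCY Y m).g.hom, f.hom c.1 = φ.hom (Submodule.Quotient.mk c) :=
    fun c => ConcreteCategory.congr_hom hf c
  have hdf : Y.d (m - 1) m ≫ f = 0 := by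
    ext y'
    have h1 := hfc ((SCY Y m).moduleCatToCycles y')
    have h2 : (Submodule.Quotient.mk ((SCY Y m).moduleCatToCycles y') : HY Y m) = 0 :=
      (Submodule.Quotient.mk_eq_zero _).2 ⟨y', rfl⟩
    rw [h2, map_zero] at h1
    exact h1
  have hz : δ n (n + 1) (Cochain.single (f ≫ (sig E).inv) n : Cochain Y (Sg E) n) = 0 := by
    rw [δ_single_Sg _ (m - 1) (by omega) (n + 1) rfl, ← Category.assoc, hdf, zero_comp,
      Cochain.single_zero, smul_zero]
  refine ⟨⟨_, (mem_ker_SCC Y E _).2 hz⟩, ?_⟩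
  refine ModuleCat.hom_ext (LinearMap.ext fun c => ?_)
  obtain ⟨c, rfl⟩ := Submodule.Quotient.mk_surjective _ c
  rw [PhiS_apply]
  change (evL Y E hmn (Cochain.single (f ≫ (sig E).inv) n)).hom c.1 = _
  rw [evL_single]
  exact hfc c

theorem PhiS_ker :
    LinearMap.ker (PhiS Y E hmn) = LinearMap.range (SCC Y E n).moduleCatToCycles := by
  ext z
  rw [LinearMap.mem_ker, LinearMap.mem_range]
  constructor
  · intro hz
    -- `evL z` kills the kernel of `d`
    set d : Y.X m ⟶ Y.X (m + 1) := Y.d m (m + 1) with hd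
    have hker : LinearMap.ker d.hom ≤ LinearMap.ker (evL Y E hmn z.1).hom := by
      intro y hy
      rw [LinearMap.mem_ker]
      have h1 := PhiS_apply Y E hmn z ⟨y, hy⟩
      rw [hz] at h1
      exact h1.symm
    let R : Submodule A (Y.X (m + 1)) := LinearMap.range d.hom
    let h : R →ₗ[A] E := ((LinearMap.ker d.hom).liftQ (evL Y E hmn z.1).hom hker) ∘ₗ
      (d.hom.quotKerEquivRange).symm.toLinearMap
    let ι : ModuleCat.of A R ⟶ Y.X (m + 1) := ModuleCat.ofHom R.subtype
    haveI : Mono ι := (ModuleCat.mono_iff_injective _).2 (Submodule.subtype_injective _)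
    let g : Y.X (m + 1) ⟶ E := Injective.factorThru (ModuleCat.ofHom h) ι
    have hg : ι ≫ g = ModuleCat.ofHom h := Injective.comp_factorThru _ _
    have hdg : d ≫ g = evL Y E hmn z.1 := by
      ext y
      have h1 := ConcreteCategory.congr_hom hg (⟨d.hom y, ⟨y, rfl⟩⟩ : R)
      change g.hom (d.hom y) = _
      refine h1.trans ?_
      change ((LinearMap.ker d.hom).liftQ (evL Y E hmn z.1).hom hker)
        ((d.hom.quotKerEquivRange).symm ⟨d.hom y, ⟨y, rfl⟩⟩) = _
      rw [LinearMap.quotKerEquivRange_symm_apply_image]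
      rfl
    let w : Cochain Y (Sg E) (n - 1) :=
      n.negOnePow • Cochain.single (g ≫ (sig E).inv) (n - 1)
    have hw : δ (n - 1) n w = z.1 := by
      change δ (n - 1) n (n.negOnePow • Cochain.single (g ≫ (sig E).inv) (n - 1)) = z.1
      rw [δ_units_smul, δ_single_Sg (n := n - 1) (m := m + 1) _ m rfl n (by omega), smul_smul,
        Int.units_mul_self, one_smul, ← Category.assoc, hdg]
      exact single_evL Y E hmn z.1
    refine ⟨(show (SCC Y E n).X₁ from w), Subtype.ext ?_⟩
    exact hw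
  · rintro ⟨w, rfl⟩
    refine ModuleCat.hom_ext (LinearMap.ext fun c => ?_)
    obtain ⟨c, rfl⟩ := Submodule.Quotient.mk_surjective _ c
    rw [PhiS_apply]
    change (evL Y E hmn (δ (n - 1) n (show Cochain Y (Sg E) (n - 1) from w))).hom c.1 = 0
    have h1 : evL Y E hmn (δ (n - 1) n (show Cochain Y (Sg E) (n - 1) from w)) =
        n.negOnePow • (Y.d m (m + 1) ≫
          (show Cochain Y (Sg E) (n - 1) from w).v (m + 1) 0 (by omega) ≫ (sig E).hom) := by
      change (δ (n - 1) n (show Cochain Y (Sg E) (n - 1) from w)).v m 0 hmn ≫ (sig E).hom = _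
      rw [δ_v (n - 1) n (by omega) _ m 0 hmn (-1) (m + 1) (by omega) rfl, single_obj_d, comp_zero,
        zero_add, Linear.units_smul_comp, Category.assoc]
    rw [h1]
    have hc : (Y.d m (m + 1)).hom c.1 = 0 := LinearMap.mem_ker.1 c.2
    change n.negOnePow • ((show Cochain Y (Sg E) (n - 1) from w).v (m + 1) 0 (by omega) ≫
      (sig E).hom).hom ((Y.d m (m + 1)).hom c.1) = 0
    rw [hc, map_zero, smul_zero]

/-- **`H^n(Hom•(Y, E[0])) ≃ Hom(H^m(Y), E)`** for `m + n = 0` and `E` injective. -/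
noncomputable def homologyEquivSgl :
    ((DRing.homCx Y (Sg E)).homology n) ≃ₗ[A] (Y.homology m ⟶ E) :=
  (((DRing.homCx Y (Sg E)).homologyIsoSc' (n - 1) n (n + 1) (by simp) (by simp) ≪≫
    (SCC Y E n).moduleCatHomologyIso).toLinearEquiv.trans
    ((Submodule.quotEquivOfEq _ _ (PhiS_ker Y E hmn).symm).trans
      ((PhiS Y E hmn).quotKerEquivOfSurjective (PhiS_surjective Y E hmn)))).trans
    (Linear.homCongr A (Y.homologyIsoSc' (m - 1) m (m + 1) (by simp) (by simp) ≪≫
      (SCY Y m).moduleCatHomologyIso).symm (Iso.refl E))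

end Groth.Agent.Lib.Helper39.LD
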