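import Mathlib.Algebra.Homology.HomologySequenceLemmas
import Mathlib.Algebra.Homology.HomotopyCategory.HomComplex

/-!
# Two-out-of-three for quasi-isomorphisms in short exact sequences of cochain complexes: `τ₁`
-/

set_option autoImplicit false
universe v u

namespace Groth.Agent.Lib.Helper39.LD.QisTau

open CategoryTheory CategoryTheory.Limits HomologicalComplex ComposableArrows

variable {C : Type u} [Category.{v} C] [Abelian C]
  {S₁ S₂ : ShortComplex (CochainComplex C ℤ)} (φ : S₁ ⟶ S₂)

theorem quasiIso_τ₁ (hS₁ : S₁.ShortExact) (hS₂ : S₂.ShortExact)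
    (h₂ : QuasiIso φ.τ₂) (h₃ : QuasiIso φ.τ₃) : QuasiIso φ.τ₁ := by
  rw [quasiIso_iff]
  intro j
  rw [quasiIsoAt_iff_isIso_homologyMap]
  have hij : (ComplexShape.up ℤ).Rel (j - 1) j := by simp
  have h21 : IsIso (homologyMap φ.τ₂ (j - 1)) := inferInstance
  have h31 : IsIso (homologyMap φ.τ₃ (j - 1)) := inferInstance
  have h22 : IsIso (homologyMap φ.τ₂ j) := inferInstance
  have h32 : IsIso (homologyMap φ.τ₃ j) := inferInstance
  exact Abelian.isIso_of_epi_of_isIso_of_isIso_of_mono' (k := 1) (by omega)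
    (HomologySequence.composableArrows₅_exact hS₁ (j - 1) j hij)
    (HomologySequence.composableArrows₅_exact hS₂ (j - 1) j hij)
    (HomologySequence.mapComposableArrows₅ φ hS₁ hS₂ (j - 1) j hij) 1 2 3 4 5 rfl rfl rfl rfl rfl
    (by dsimp; exact @IsIso.epi_of_iso _ _ _ _ _ h21) (by dsimp; exact h31) (by dsimp; exact h22)
    (by dsimp; exact @IsIso.mono_of_iso _ _ _ _ _ h32)

end Groth.Agent.Lib.Helper39.LD.QisTau
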