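import Groth.Agent.Lib.Helper39.LD.EtaC
import Groth.Agent.Lib.Helper39.LD.QisTau
import Mathlib.Algebra.Homology.HomotopyCategory.DegreewiseSplit

/-!
# Biduality for complexes: closure properties of the class of `K` with `etaC J K` a quasi-iso
-/

set_option autoImplicit false
universe u

namespace Groth.Agent.Lib.Helper39.LD.BidualCx

open CategoryTheory CategoryTheory.Limits HomologicalComplex ZeroObject
open CochainComplex.HomComplex
open Groth.Agent.Lib.Helper25.TensorCx Groth.Agent.Lib.Helper25.HomCxPre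
open Groth.Agent.Lib.Helper25.HomCxSplit Groth.Agent.Lib.Helper25.Bidual
open Groth.Agent.Lib.Helper39.LD.EtaC

variable {A : Type u} [CommRing A] (J : DRing.Cx A)

/-- the class of complexes for which biduality holds -/
def Refl (K : DRing.Cx A) : Prop := QuasiIso (etaC J K)

theorem isZero_homCx_of_isZero {Z : DRing.Cx A} (hZ : IsZero Z) : IsZero (DRing.homCx Z J) := by
  rw [IsZero.iff_id_eq_zero]
  apply HomologicalComplex.hom_ext
  intro i
  apply ModuleCat.hom_ext
  refine LinearMap.ext fun (z : Cochain Z J i) => ?_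
  change z = 0
  refine Cochain.ext _ _ (fun p q hpq => ?_)
  have : IsZero (Z.X p) := Functor.map_isZero (HomologicalComplex.eval _ _ p) hZ
  exact this.eq_of_src _ _

theorem refl_of_isZero {Z : DRing.Cx A} (hZ : IsZero Z) : Refl J Z := by
  have hT : IsZero (DRing.homCx (DRing.homCx Z J) J) :=
    isZero_homCx_of_isZero J (isZero_homCx_of_isZero J hZ)
  haveI : IsIso (etaC J Z) := ⟨⟨0, hZ.eq_of_src _ _, hT.eq_of_src _ _⟩⟩
  unfold Refl
  infer_instance

theorem shortExact_triangleRotate {K L : DRing.Cx A} (φ : K ⟶ L) :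
    (CochainComplex.mappingCone.triangleRotateShortComplex φ).ShortExact :=
  HomologicalComplex.shortExact_of_degreewise_shortExact _ (fun n =>
    (CochainComplex.mappingCone.triangleRotateShortComplexSplitting φ n).shortExact)

section KInj

variable [J.IsKInjective]

theorem refl_iff_of_quasiIso {K' K : DRing.Cx A} (g : K' ⟶ K) [QuasiIso g] :
    Refl J K' ↔ Refl J K := by
  haveI : QuasiIso (homCxPre g J) := Groth.Agent.Lib.Helper25.RHomKInj.quasiIso_homCxPre g J
  haveI : QuasiIso (homCxPre (homCxPre g J) J) :=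
    Groth.Agent.Lib.Helper25.RHomKInj.quasiIso_homCxPre _ J
  have h := etaC_naturality J g
  unfold Refl
  constructor
  · intro h'
    haveI : QuasiIso (g ≫ etaC J K) := by rw [h]; infer_instance
    exact quasiIso_of_comp_left g (etaC J K)
  · intro h'
    haveI : QuasiIso (etaC J K' ≫ homCxPre (homCxPre g J) J) := by rw [← h]; infer_instance
    exact quasiIso_of_comp_right (etaC J K') (homCxPre (homCxPre g J) J)

theorem refl_of_iso {K' K : DRing.Cx A} (e : K' ≅ K) (h : Refl J K') : Refl J K :=
  (refl_iff_of_quasiIso J e.hom).1 h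

theorem refl_of_contractible {K : DRing.Cx A} (h : Homotopy (𝟙 K) 0) : Refl J K := by
  let e : HomotopyEquiv K (0 : DRing.Cx A) :=
    { hom := 0
      inv := 0
      homotopyHomInvId := (Homotopy.ofEq (by simp)).trans h.symm
      homotopyInvHomId := Homotopy.ofEq ((isZero_zero (DRing.Cx A)).eq_of_src _ _) }
  haveI : QuasiIso (e.hom) := HomotopyEquiv.quasiIso_hom e
  exact (refl_iff_of_quasiIso J e.hom).2 (refl_of_isZero J (isZero_zero _))

end KInj

section SES

variable (hJ : ∀ n, Injective (J.X n))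

/-- the morphism of short complexes given by the biduality maps -/
noncomputable def etaSC (S : ShortComplex (DRing.Cx A)) : S ⟶ preSC J (preSC J S) where
  τ₁ := etaC J S.X₁
  τ₂ := etaC J S.X₂
  τ₃ := etaC J S.X₃
  comm₁₂ := (etaC_naturality J S.f).symm
  comm₂₃ := (etaC_naturality J S.g).symm

include hJ

theorem refl_X₃ (S : ShortComplex (DRing.Cx A)) (hS : S.ShortExact) (h₁ : Refl J S.X₁)
    (h₂ : Refl J S.X₂) : Refl J S.X₃ :=
  HomologySequence.quasiIso_τ₃ (etaSC J S) hS
    (shortExact_preSC J _ (shortExact_preSC J S hS hJ) hJ) h₁ h₂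

theorem refl_X₁ (S : ShortComplex (DRing.Cx A)) (hS : S.ShortExact) (h₂ : Refl J S.X₂)
    (h₃ : Refl J S.X₃) : Refl J S.X₁ :=
  QisTau.quasiIso_τ₁ (etaSC J S) hS
    (shortExact_preSC J _ (shortExact_preSC J S hS hJ) hJ) h₂ h₃

variable [J.IsKInjective]

theorem refl_shift_one (K : DRing.Cx A) (h : Refl J K) : Refl J (K⟦(1 : ℤ)⟧) :=
  refl_X₃ J hJ (CochainComplex.mappingCone.triangleRotateShortComplex (𝟙 K))
    (shortExact_triangleRotate _) h
    (refl_of_contractible J (CochainComplex.mappingCone.homotopyToZeroOfId K))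

theorem refl_shift_neg_one (K : DRing.Cx A) (h : Refl J K) : Refl J (K⟦(-1 : ℤ)⟧) := by
  refine refl_X₁ J hJ (CochainComplex.mappingCone.triangleRotateShortComplex (𝟙 (K⟦(-1 : ℤ)⟧)))
    (shortExact_triangleRotate _)
    (refl_of_contractible J (CochainComplex.mappingCone.homotopyToZeroOfId _)) ?_
  exact refl_of_iso J ((shiftFunctorCompIsoId (DRing.Cx A) (-1 : ℤ) 1 (by norm_num)).app K).symm h

theorem refl_shift (K : DRing.Cx A) (h : Refl J K) (n : ℤ) : Refl J (K⟦n⟧) := by
  induction n using Int.induction_on with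
  | zero => exact refl_of_iso J ((shiftFunctorZero (DRing.Cx A) ℤ).app K).symm h
  | succ n ih =>
    exact refl_of_iso J ((shiftFunctorAdd' (DRing.Cx A) (n : ℤ) 1 (n + 1) rfl).app K).symm
      (refl_shift_one J hJ _ ih)
  | pred n ih =>
    exact refl_of_iso J ((shiftFunctorAdd' (DRing.Cx A) (-(n : ℤ)) (-1) (-(n : ℤ) - 1)
      (by ring)).app K).symm (refl_shift_neg_one J hJ _ ih)

end SES

end Groth.Agent.Lib.Helper39.LD.BidualCx
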