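import Groth.Agent.Lib.Helper39.LD.BidualCx
import Groth.Agent.Lib.Helper25.Bidual.Unit
import Groth.Agent.Lib.Helper25.Bidual.Main
import Mathlib.Algebra.Homology.HomotopyCategory.HomComplexSingle

/-!
# Biduality for finite modules in terms of `etaC` (comparison with helper25's `eta`)
-/

set_option autoImplicit false
universe u

namespace Groth.Agent.Lib.Helper39.LD.BidualMod

open CategoryTheory CategoryTheory.Limits HomologicalComplex
open CochainComplex.HomComplex
open Groth.Agent.Lib.Helper25.HomCxPre Groth.Agent.Lib.Helper25.HomTensor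
open Groth.Agent.Lib.Helper25.Bidual
open Groth.Agent.Lib.Helper39.LD.EtaC Groth.Agent.Lib.Helper39.LD.BidualCx

variable {A : Type u} [CommRing A] (J : DRing.Cx A) (M : ModuleCat.{u} A)

/-- a module in degree `0` -/
noncomputable abbrev S0 : DRing.Cx A := (CochainComplex.singleFunctor (ModuleCat.{u} A) 0).obj M

/-- `Hom(M, J^q) → Hom•(M[0], J)^q` -/
noncomputable def cLin (q : ℤ) : (M →ₗ[A] J.X q) →ₗ[A] Cochain (S0 M) J q where
  toFun h := Cochain.fromSingleMk (ModuleCat.ofHom h) (zero_add q)
  map_add' h h' := by rw [ModuleCat.ofHom_add, Cochain.fromSingleMk_add]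
  map_smul' a h := by
    refine Cochain.ext _ _ (fun p q' hpq => ?_)
    by_cases hp : p = 0
    · subst hp
      obtain rfl : q' = q := by omega
      simp only [RingHom.id_apply, Cochain.smul_v]
      rw [Cochain.fromSingleMk_v, Cochain.fromSingleMk_v]
      ext x
      rfl
    · rw [Cochain.fromSingleMk_v_eq_zero _ _ _ _ _ hp]
      simp only [RingHom.id_apply, Cochain.smul_v]
      rw [Cochain.fromSingleMk_v_eq_zero _ _ _ _ _ hp, smul_zero]

theorem cLin_v (q : ℤ) (h : M →ₗ[A] J.X q) (x : (S0 M).X 0) :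
    ((cLin J M q h).v 0 q (zero_add q)).hom x =
      h ((HomologicalComplex.singleObjXSelf (.up ℤ) 0 M).hom x) := by
  unfold cLin
  change ((Cochain.fromSingleMk (ModuleCat.ofHom h) (zero_add q)).v 0 q (zero_add q)).hom x = _
  rw [Cochain.fromSingleMk_v]
  rfl

theorem cLin_bijective (q : ℤ) : Function.Bijective (cLin J M q) := by
  constructor
  · intro h h' hh
    have := congrArg (Cochain.fromSingleEquiv (zero_add q)) hh
    change Cochain.fromSingleEquiv (zero_add q)
        (Cochain.fromSingleMk (ModuleCat.ofHom h) (zero_add q)) =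
      Cochain.fromSingleEquiv (zero_add q)
        (Cochain.fromSingleMk (ModuleCat.ofHom h') (zero_add q)) at this
    rw [Cochain.fromSingleEquiv_fromSingleMk, Cochain.fromSingleEquiv_fromSingleMk] at this
    exact congrArg ModuleCat.Hom.hom this
  · intro α
    obtain ⟨f, hf⟩ := Cochain.fromSingleMk_surjective α q (zero_add q)
    exact ⟨f.hom, hf⟩

/-- the comparison map `Hom(M, J) ⟶ Hom•(M[0], J)` -/
noncomputable def cHom : Dp J M ⟶ DRing.homCx (S0 M) J where
  f q := ModuleCat.ofHom (cLin J M q)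
  comm' q q' hqq' := by
    refine ModuleCat.hom_ext (LinearMap.ext fun (h : M →ₗ[A] J.X q) => ?_)
    change δ q q' (Cochain.fromSingleMk (ModuleCat.ofHom h) (zero_add q)) =
      Cochain.fromSingleMk (ModuleCat.ofHom ((J.d q q').hom ∘ₗ h)) (zero_add q')
    rw [Cochain.δ_fromSingleMk _ _ q' q' (zero_add q')]
    rfl

instance : IsIso (cHom J M) := by
  haveI : ∀ q, IsIso ((cHom J M).f q) := fun q =>
    (ConcreteCategory.isIso_iff_bijective _).2 (cLin_bijective J M q)
  exact HomologicalComplex.Hom.isIso_of_components _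

instance : IsIso (homCxPre (cHom J M) J) :=
  ⟨⟨homCxPre (inv (cHom J M)) J, by
    rw [← homCxPre_comp, IsIso.inv_hom_id, homCxPre_id], by
    rw [← homCxPre_comp, IsIso.hom_inv_id, homCxPre_id]⟩⟩

theorem etaC_comp_cHom :
    etaC J (S0 M) ≫ homCxPre (cHom J M) J = (eta J).app M := by
  apply HomologicalComplex.from_single_hom_ext
  refine ModuleCat.hom_ext (LinearMap.ext fun (x : (S0 M).X 0) => ?_)
  have hR := eta_f_zero J M x
  change (Cochain.ofHom (cHom J M)).comp
    (toCochain (DRing.homCx (S0 M) J) J 0 (((etaC J (S0 M)).f 0).hom x)) (zero_add 0) =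
      (((eta J).app M).f 0).hom x
  refine Eq.trans ?_ hR.symm
  refine Cochain.ext _ _ (fun q q' hqq' => ?_)
  have hq : q = q' := by omega
  subst hq
  rw [precomp_v, Cochain.ofHom_v]
  refine ModuleCat.hom_ext (LinearMap.ext fun (h : M →ₗ[A] J.X q) => ?_)
  change ((toCochain (DRing.homCx (S0 M) J) J 0 (((etaC J (S0 M)).f 0).hom x)).v q q hqq').hom
    (ofCochain (S0 M) J q (cLin J M q h)) = h ((singleObjXSelf (ComplexShape.up ℤ) 0 M).hom x)
  rw [etaC_apply J (S0 M) 0 q q hqq' x (cLin J M q h)]
  simp only [zero_mul, Int.negOnePow_zero, one_smul]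
  exact cLin_v J M q h x

attribute [local instance] HasDerivedCategory.standard

theorem refl_S0 [IsNoetherianRing A] [J.IsKInjective] (a b : ℤ) (hJ : ∀ n, Injective (J.X n))
    (hb : ∀ i, (i < a ∨ b < i) → IsZero (J.X i))
    (hωJ : Dual.IsDualizing A (DerivedCategory.Q.obj J))
    (N : Type u) [AddCommGroup N] [Module A N] [Module.Finite A N] :
    Refl J (S0 (ModuleCat.of A N)) := by
  have hq : QuasiIso ((eta J).app (ModuleCat.of A N)) :=
    quasiIso_of_finite (DD J) (eta J) (shortExact_map_DD J hJ) (b - a)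
      (fun N j hj => isZero_DD_homology J a b hb N j hj)
      (quasiIso_eta_self J hωJ.toEnd_bijective hωJ.ext_self_subsingleton) N
  unfold Refl
  haveI : QuasiIso (etaC J (S0 (ModuleCat.of A N)) ≫ homCxPre (cHom J (ModuleCat.of A N)) J) := by
    rw [etaC_comp_cHom]
    exact hq
  exact quasiIso_of_comp_right (etaC J (S0 (ModuleCat.of A N)))
    (homCxPre (cHom J (ModuleCat.of A N)) J)

end Groth.Agent.Lib.Helper39.LD.BidualMod
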