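import Groth.Agent.Lib.Helper39.LD.Main
import Groth.Agent.Lib.Helper85.MatlisDual

/-!
# Corollaries of local duality (helper39)
-/

set_option autoImplicit false
universe u

namespace Groth.Agent.Lib.Helper39.LD

open CategoryTheory

variable {A : Type u} [CommRing A] [IsLocalRing A]
  {E : Type u} [AddCommGroup E] [Module A E] {f : IsLocalRing.ResidueField A →ₗ[A] E}

/-- a finite module in a higher universe has a model in `Type u` -/
theorem exists_small_model (X : Type (u + 1)) [AddCommGroup X] [Module A X] [Module.Finite A X] :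
    ∃ (n : ℕ) (K : Submodule A (Fin n → A)), Nonempty (((Fin n → A) ⧸ K) ≃ₗ[A] X) := by
  obtain ⟨n, π, hπ⟩ := Module.Finite.exists_fin' A X
  exact ⟨n, LinearMap.ker π, ⟨π.quotKerEquivOfSurjective hπ⟩⟩

/-- `E` separates the points of a finite module in a higher universe -/
theorem exists_hom_apply_ne_zero' (hf : InjHull.IsInjectiveHull f) (X : Type (u + 1))
    [AddCommGroup X] [Module A X] [Module.Finite A X] (x : X) (hx : x ≠ 0) :
    ∃ φ : X →ₗ[A] E, φ x ≠ 0 := by
  obtain ⟨n, K, ⟨e⟩⟩ := exists_small_model (A := A) X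
  have hy : e.symm x ≠ 0 := fun h => hx (by
    have := congrArg e h
    rwa [LinearEquiv.apply_symm_apply, map_zero] at this)
  obtain ⟨ψ, hψ⟩ := Groth.Agent.Lib.Helper85.Matlis.exists_hom_apply_ne_zero hf (e.symm x) hy
  exact ⟨ψ ∘ₗ e.symm.toLinearMap, hψ⟩

theorem annihilator_dual_eq (hf : InjHull.IsInjectiveHull f) (X : Type (u + 1))
    [AddCommGroup X] [Module A X] [Module.Finite A X] :
    Module.annihilator A (X →ₗ[A] E) = Module.annihilator A X := by
  ext a
  rw [Module.mem_annihilator, Module.mem_annihilator]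
  constructor
  · intro h x
    by_contra hx
    obtain ⟨φ, hφ⟩ := exists_hom_apply_ne_zero' hf X (a • x) hx
    apply hφ
    have h1 := LinearMap.congr_fun (h φ) x
    rw [LinearMap.smul_apply, ← map_smul] at h1
    exact h1
  · intro h φ
    ext x
    rw [LinearMap.smul_apply, ← map_smul, h x, map_zero]
    rfl

/-- Matlis biduality for a finite module in a higher universe over a complete local ring -/
theorem nonempty_bidual_equiv [IsNoetherianRing A] [IsAdicComplete (IsLocalRing.maximalIdeal A) A]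
    (hf : InjHull.IsInjectiveHull f) (X : Type (u + 1))
    [AddCommGroup X] [Module A X] [Module.Finite A X] :
    Nonempty (X ≃ₗ[A] ((X →ₗ[A] E) →ₗ[A] E)) := by
  obtain ⟨n, K, ⟨e⟩⟩ := exists_small_model (A := A) X
  let N := (Fin n → A) ⧸ K
  let e1 : N ≃ₗ[A] ((N →ₗ[A] E) →ₗ[A] E) :=
    LinearEquiv.ofBijective _
      (Groth.Agent.Lib.Helper85.Matlis.applyₗ_bijective_of_finite hf N)
  let e2 : ((N →ₗ[A] E) →ₗ[A] E) ≃ₗ[A] ((X →ₗ[A] E) →ₗ[A] E) :=
    LinearEquiv.arrowCongr (LinearEquiv.arrowCongr e (LinearEquiv.refl A E)) (LinearEquiv.refl A E)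
  exact ⟨e.symm.trans (e1.trans e2)⟩

end Groth.Agent.Lib.Helper39.LD
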