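import Groth.Agent.Lib.Helper85.MatlisDual
import Mathlib.RingTheory.LocalRing.Module

/-!
# A finite module `N` with `Hom(N, E) ≃ E` is free of rank one (helper39)
-/

set_option autoImplicit false
universe u

namespace Groth.Agent.Lib.Helper39.LD.DualSelf

open InjHull IsLocalRing Groth.Agent.Lib.Helper85.Matlis

variable {R : Type u} [CommRing R] [IsLocalRing R] [IsNoetherianRing R]
  {E : Type u} [AddCommGroup E] [Module R E] {f : ResidueField R →ₗ[R] E}
  (hf : IsInjectiveHull f)
  (N : Type u) [AddCommGroup N] [Module R N] [Module.Finite R N]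
  (e : (N →ₗ[R] E) ≃ₗ[R] E)

include hf in
theorem faithful_E (a : R) (ha : ∀ y : E, a • y = 0) : a = 0 := by
  by_contra hne
  obtain ⟨φ, hφ⟩ := exists_hom_apply_ne_zero hf (M := R) a hne
  apply hφ
  have : φ a = a • φ 1 := by rw [← map_smul, smul_eq_mul, mul_one]
  rw [this, ha]

include hf e in
theorem faithful (a : R) (ha : ∀ x : N, a • x = 0) : a = 0 := by
  apply faithful_E hf a
  intro y
  obtain ⟨φ, rfl⟩ := e.surjective y
  rw [← map_smul]
  have : a • φ = 0 := by
    ext x
    rw [LinearMap.smul_apply, ← map_smul, ha x, map_zero, LinearMap.zero_apply]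
  rw [this, map_zero]

variable (R) in
/-- `N / mN` -/
abbrev Nb : Type u := N ⧸ (maximalIdeal R • ⊤ : Submodule R N)

omit [IsNoetherianRing R] [Module.Finite R N] in
theorem smul_Nb (a : R) (ha : a ∈ maximalIdeal R) (y : Nb R N) : a • y = 0 := by
  obtain ⟨x, rfl⟩ := Submodule.mkQ_surjective _ y
  rw [← map_smul, Submodule.mkQ_apply, Submodule.Quotient.mk_eq_zero]
  exact Submodule.smul_mem_smul ha trivial

theorem isFiniteLength_Nb : IsFiniteLength R (Nb R N) := by
  rw [isFiniteLength_iff_isNoetherian_isArtinian]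
  refine ⟨inferInstance, ?_⟩
  set a : Ideal R := maximalIdeal R with ha
  letI : Field (R ⧸ a) := Ideal.Quotient.field a
  haveI : Module.Finite (R ⧸ a) (N ⧸ (a • ⊤ : Submodule R N)) :=
    Module.Finite.of_restrictScalars_finite R (R ⧸ a) _
  haveI : IsArtinian (R ⧸ a) (N ⧸ (a • ⊤ : Submodule R N)) := inferInstance
  exact isArtinian_of_surjective_algebraMap (R := R ⧸ a) (S := R)
    (M := N ⧸ (a • ⊤ : Submodule R N)) Ideal.Quotient.mk_surjective

include hf e in
theorem length_Nb_le : Module.length R (Nb R N) ≤ 1 := by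
  rw [← length_hom hf (Nb R N) (isFiniteLength_Nb N)]
  let π : N →ₗ[R] Nb R N := Submodule.mkQ _
  let ι : (Nb R N →ₗ[R] E) →ₗ[R] E := e.toLinearMap ∘ₗ LinearMap.lcomp R E π
  have hι : Function.Injective ι := by
    intro ψ ψ' h
    have h1 : LinearMap.lcomp R E π ψ = LinearMap.lcomp R E π ψ' := e.injective h
    refine LinearMap.ext fun y => ?_
    obtain ⟨x, rfl⟩ := Submodule.mkQ_surjective _ y
    exact LinearMap.congr_fun h1 x
  have hr : ∀ ψ, ι ψ ∈ LinearMap.range f := by
    intro ψ
    rw [← socle_eq_range hf.toIsEssentialInj, Submodule.mem_torsionBySet_iff]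
    rintro ⟨a, ha⟩
    change a • ι ψ = 0
    rw [← map_smul]
    have : a • ψ = 0 := by
      refine LinearMap.ext fun y => ?_
      rw [LinearMap.smul_apply, ← map_smul, smul_Nb N a ha y, map_zero, LinearMap.zero_apply]
    rw [this, map_zero]
  let g : (Nb R N →ₗ[R] E) →ₗ[R] LinearMap.range f := ι.codRestrict _ hr
  have hg : Function.Injective g := fun ψ ψ' h => hι (congrArg Subtype.val h)
  have h1 := Module.length_le_of_injective g hg
  have e2 := (LinearEquiv.ofInjective f hf.injective).length_eq
  rw [← e2, Module.length_eq_one R (ResidueField R)] at h1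
  exact h1

include hf e in
theorem exists_span_eq_top : ∃ x : N, Submodule.span R {x} = ⊤ := by
  have hle := length_Nb_le hf N e
  have key : ∃ x : N, Submodule.span R {(Submodule.mkQ (maximalIdeal R • ⊤ : Submodule R N)) x} = ⊤ := by
    by_cases hs : Subsingleton (Nb R N)
    · exact ⟨0, Subsingleton.elim _ _⟩
    · rw [not_subsingleton_iff_nontrivial] at hs
      have h1 : Module.length R (Nb R N) = 1 := by
        apply le_antisymm hle
        rw [Order.one_le_iff_ne_zero, Ne, Module.length_eq_zero_iff]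
        exact not_subsingleton _
      haveI : IsSimpleModule R (Nb R N) := Module.length_eq_one_iff.1 h1
      obtain ⟨y, hy⟩ := exists_ne (0 : Nb R N)
      obtain ⟨x, rfl⟩ := Submodule.mkQ_surjective _ y
      exact ⟨x, IsSimpleModule.span_singleton_eq_top R hy⟩
  obtain ⟨x, hx⟩ := key
  refine ⟨x, IsLocalRing.map_mkQ_eq_top.1 ?_⟩
  rw [Submodule.map_span, Set.image_singleton]
  exact hx

include hf e in
theorem nonempty_equiv_self : Nonempty (N ≃ₗ[R] R) := by
  obtain ⟨x, hx⟩ := exists_span_eq_top hf N e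
  let t : R →ₗ[R] N := LinearMap.toSpanSingleton R N x
  have hsurj : Function.Surjective t := by
    rw [← LinearMap.range_eq_top, ← hx]
    exact (LinearMap.span_singleton_eq_range R N x).symm
  have hinj : Function.Injective t := by
    rw [← LinearMap.ker_eq_bot, eq_bot_iff]
    intro a ha
    rw [LinearMap.mem_ker, LinearMap.toSpanSingleton_apply] at ha
    rw [Submodule.mem_bot]
    apply faithful hf N e a
    intro y
    obtain ⟨b, rfl⟩ := hsurj y
    rw [LinearMap.toSpanSingleton_apply, smul_comm, ha, smul_zero]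
  exact ⟨(LinearEquiv.ofBijective t ⟨hinj, hsurj⟩).symm⟩

end Groth.Agent.Lib.Helper39.LD.DualSelf
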