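import Groth.Agent.Lib.Helper25.HomCxAdj2
import Groth.Agent.Lib.Helper25.TensorBraid
import Groth.Agent.Lib.Helper25.RHomKInj
import Groth.Agent.Lib.Helper25.Bidual.Exact

/-!
# The biduality map `K ⟶ Hom•(Hom•(K, J), J)` for complexes (helper39)
-/

set_option autoImplicit false
universe u

namespace Groth.Agent.Lib.Helper39.LD.EtaC

open CategoryTheory CategoryTheory.Limits MonoidalCategory HomologicalComplex
open CochainComplex.HomComplex
open Groth.Agent.Lib.Helper25.TensorCx Groth.Agent.Lib.Helper25.HomTensor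
open Groth.Agent.Lib.Helper25.HomCxAdj Groth.Agent.Lib.Helper25.HomCxPre

variable {A : Type u} [CommRing A] (J : Cx A)

/-- evaluation `Hom•(K, J) ⊗ K ⟶ J` -/
noncomputable def ev (K : Cx A) : (DRing.homCx K J ⊗ K : Cx A) ⟶ J :=
  uncurry K (𝟙 (DRing.homCx K J))

/-- the biduality map -/
noncomputable def etaC (K : Cx A) : K ⟶ DRing.homCx (DRing.homCx K J) J :=
  curry (DRing.homCx K J) ((braid K (DRing.homCx K J)).hom ≫ ev J K)

theorem uncurry_etaC (K : Cx A) :
    uncurry (DRing.homCx K J) (etaC J K) = (braid K (DRing.homCx K J)).hom ≫ ev J K :=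
  uncurry_curry _ _

theorem ev_naturality {K' K : Cx A} (g : K' ⟶ K) :
    (DRing.homCx K J ◁ g) ≫ ev J K = (homCxPre g J ▷ K') ≫ ev J K' := by
  unfold ev
  rw [← uncurry_naturality_mid, ← uncurry_naturality_left, Category.id_comp, Category.comp_id]

theorem etaC_naturality {K' K : Cx A} (g : K' ⟶ K) :
    g ≫ etaC J K = etaC J K' ≫ homCxPre (homCxPre g J) J := by
  have h : uncurry (DRing.homCx K J) (g ≫ etaC J K) =
      uncurry (DRing.homCx K J) (etaC J K' ≫ homCxPre (homCxPre g J) J) := by
    rw [uncurry_naturality_left, uncurry_naturality_mid, uncurry_etaC, uncurry_etaC,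
      ← Category.assoc, braid_whiskerRight, Category.assoc, ev_naturality,
      ← Category.assoc, ← Category.assoc, braid_whiskerLeft]
  rw [← curry_uncurry (DRing.homCx K J) (g ≫ etaC J K), h, curry_uncurry]

theorem etaC_apply (K : Cx A) (p a b : ℤ) (hab : a + p = b) (k : K.X p) (φ : Cochain K J a) :
    ((toCochain (DRing.homCx K J) J p (((etaC J K).f p).hom k)).v a b hab).hom
        (ofCochain K J a φ) =
      ((p * a).negOnePow : ℤˣ) • (φ.v p b (by omega)).hom k := by
  have h1 : (etaC J K).f p = (Cochain.ofHom (etaC J K)).v p p (add_zero p) := by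
    rw [Cochain.ofHom_v]
  rw [h1]
  unfold etaC
  rw [ofHom_curry]
  rw [bwd_apply _ p p (add_zero p) k a b hab b (by omega), Cochain.ofHom_v]
  change ((ev J K).f b).hom (((braid K (DRing.homCx K J)).hom.f b).hom
    (tm K (DRing.homCx K J) p a b (by omega) k (ofCochain K J a φ))) = _
  erw [braid_hom_f_apply, braidLin_tm]
  rw [map_zsmul_unit]
  unfold ev
  rw [uncurry_f_tm K (𝟙 (DRing.homCx K J)) a p b hab (ofCochain K J a φ) k]
  rfl

end Groth.Agent.Lib.Helper39.LD.EtaC
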