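import Groth.Agent.Lib.Helper25.LocColim.Main
import Groth.Prelude.Def_DualLC

/-!
# `H^q_I(K) ≃ H^q(Γ_I L)` for a K-injective representative `L` of `K` (helper39)
(extracted from helper25's `LocColim.main`, without the hypothesis that `RΓ_I` exists)
-/

set_option autoImplicit false
universe u

namespace Groth.Agent.Lib.Helper39.LD

open CategoryTheory CategoryTheory.Limits DerivedCategory
open Groth.Agent.Lib.Helper25.LocColim

attribute [local instance] HasDerivedCategory.standard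

variable {A : Type u} [CommRing A] (I : Ideal A)

/-- `H^q_I(K) ≃ H^q(Γ_I L)` (concrete model) -/
noncomputable def hdiEquivHc (L : CochainComplex (ModuleCat.{u} A) ℤ) [L.IsKInjective]
    (K : Dual.D A) (e : Q.obj L ≅ K) (q : ℤ) : Dual2.HDI A I K q ≃ₗ[A] Hc I L q :=
  let eM : ↑(colimit (Gdiag I ((Q.obj L)⟦q⟧))) ≃ₗ[A] Hc I L q :=
    (LinearEquiv.ofBijective (colimit.desc (Gdiag I ((Q.obj L)⟦q⟧)) (cocone I L q)).hom
      ⟨desc_injective I L q, desc_surjective I L q⟩).trans ULift.moduleEquiv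
  let eR : colimit (Gdiag I ((Q.obj L)⟦q⟧)) ≅ Dual2.HDI A I K q :=
    HasColimit.isoOfNatIso (Functor.isoWhiskerLeft (Fdiag I)
      ((linearYoneda A (Dual.D A)).mapIso ((shiftFunctor (Dual.D A) q).mapIso e)))
  eR.toLinearEquiv.symm.trans eM

/-- `H^q_I(K) ≃ H^q(Γ_I L)` -/
noncomputable def hdiEquivHomology (L : CochainComplex (ModuleCat.{u} A) ℤ) [L.IsKInjective]
    (K : Dual.D A) (e : Q.obj L ≅ K) (q : ℤ) :
    Dual2.HDI A I K q ≃ₗ[A] ((gam I L).homology q) :=
  (hdiEquivHc I L K e q).trans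
    ((gam I L).homologyIsoSc' (q - 1) q (q + 1) (by simp) (by simp) ≪≫
      (scq I L q).moduleCatHomologyIso).toLinearEquiv.symm

end Groth.Agent.Lib.Helper39.LD
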