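import Mathlib
import Groth.Prelude.Def_DRing4

/-!
# A complex with a single injective cohomology module maps quasi-isomorphically onto it (helper39)
-/

set_option autoImplicit false
universe u

namespace Groth.Agent.Lib.Helper39.LD

open CategoryTheory CategoryTheory.Limits HomologicalComplex

variable {A : Type u} [CommRing A] (G : DRing.Cx A) (E : ModuleCat.{u} A) [Injective E]
  (e : G.homology 0 ≅ E)

/-- an extension of `Z⁰(G) → H⁰(G) ≅ E` to `G⁰` -/
noncomputable def rMap : G.X 0 ⟶ E := Injective.factorThru (G.homologyπ 0 ≫ e.hom) (G.iCycles 0)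

theorem iCycles_rMap : G.iCycles 0 ≫ rMap G E e = G.homologyπ 0 ≫ e.hom :=
  Injective.comp_factorThru _ _

/-- the morphism `G ⟶ E[0]` -/
noncomputable def toSgl : G ⟶ (single (ModuleCat.{u} A) (ComplexShape.up ℤ) 0).obj E :=
  mkHomToSingle (rMap G E e) (fun i _ => by
    rw [← G.toCycles_i i 0, Category.assoc, iCycles_rMap, ← Category.assoc,
      G.toCycles_comp_homologyπ, zero_comp])

theorem homologyMap_toSgl :
    homologyMap (toSgl G E e) 0 ≫
      (singleObjHomologySelfIso (ComplexShape.up ℤ) 0 E).hom = e.hom := by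
  rw [← cancel_epi (G.homologyπ 0), homologyπ_naturality_assoc,
    homologyπ_singleObjHomologySelfIso_hom, singleObjCyclesSelfIso_hom,
    cyclesMap_i_assoc]
  unfold toSgl
  rw [mkHomToSingle_f, Category.assoc, Iso.inv_hom_id, Category.comp_id,
    iCycles_rMap]

theorem quasiIso_toSgl (h : ∀ j : ℤ, j ≠ 0 → IsZero (G.homology j)) : QuasiIso (toSgl G E e) := by
  rw [quasiIso_iff]
  intro j
  rw [quasiIsoAt_iff_isIso_homologyMap]
  by_cases hj : j = 0
  · subst hj
    have h1 : IsIso (homologyMap (toSgl G E e) 0 ≫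
        (singleObjHomologySelfIso (ComplexShape.up ℤ) 0 E).hom) := by
      rw [homologyMap_toSgl]
      infer_instance
    exact IsIso.of_isIso_comp_right _ (singleObjHomologySelfIso (ComplexShape.up ℤ) 0 E).hom
  · have h2 : IsZero (((single (ModuleCat.{u} A) (ComplexShape.up ℤ) 0).obj E).homology j) :=
      isZero_single_obj_homology _ _ _ _ hj
    exact ⟨0, (h j hj).eq_of_src _ _, h2.eq_of_src _ _⟩

end Groth.Agent.Lib.Helper39.LD
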