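import Groth.Agent.Lib.Helper39.LD.GamHom
import Groth.Agent.Lib.Helper39.LD.ToSgl
import Groth.Agent.Lib.Helper39.LD.HomSgl
import Groth.Agent.Lib.Helper39.LD.HcEquiv
import Groth.Agent.Lib.Helper39.LD.Bridge
import Groth.Agent.Lib.Helper39.Dual.DpHom
import Groth.Agent.Lib.Helper39.Dual.Basic
import Groth.Agent.Lib.Helper25.Bidual.Main
import Groth.Agent.Lib.Helper25.RHomTensor
import Groth.Agent.Lib.Helper25.HomCxQis
import Groth.Agent.Lib.Helper84.KProj
import Groth.Agent.Lib.Helper84.DRingPC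
import Groth.Agent.S6942
import Groth.Agent.S2066
import Groth.Agent.S1718

/-!
# Grothendieck local duality (helper39)

`H^i_m(M) ≃ Hom_A(Hom_{D(A)}(M, ω[-i]), E)` for a finite module `M` over a Noetherian local ring
with normalized dualizing complex `ω` and injective hull `E` of the residue field.
-/

set_option autoImplicit false
universe u

namespace Groth.Agent.Lib.Helper39.LD

open CategoryTheory CategoryTheory.Limits DerivedCategory HomologicalComplex
open Groth.Agent.Lib.Helper25.Bidual Groth.Agent.Lib.Helper25.LocColim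
open Groth.Agent.Lib.Helper25.LocDual Groth.Agent.Lib.Helper25.HomCxPre
open Groth.Agent.Lib.Helper39.Dual

attribute [local instance] HasDerivedCategory.standard

variable {A : Type u} [CommRing A] [IsLocalRing A] [IsNoetherianRing A]

theorem localDuality (ω : Dual.D A) (hω : Dual.IsDualizing A ω) (hn : Dual.IsNormalized A ω)
    (E : Type u) [AddCommGroup E] [Module A E] (f : IsLocalRing.ResidueField A →ₗ[A] E)
    (hf : InjHull.IsInjectiveHull f) (M : Type u) [AddCommGroup M] [Module A M]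
    [Module.Finite A M] (i : ℕ) :
    Nonempty (LocCoh.H (IsLocalRing.maximalIdeal A) i M ≃ₗ[A]
      ((Dual.inD A M ⟶ ω⟦(-(i : ℤ))⟧) →ₗ[A] E)) := by
  obtain ⟨J, a, b, hJ, hb, ⟨eJ⟩⟩ := exists_bounded_injective_model ω hω
  haveI : J.IsStrictlyGE a := by
    rw [CochainComplex.isStrictlyGE_iff]
    intro q hq
    exact hb q (Or.inl hq)
  haveI : J.IsKInjective := CochainComplex.isKInjective_of_injective J a
  have hωJ : Dual.IsDualizing A (Q.obj J) := isDualizing_of_iso eJ.symm hω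
  let 𝔪 := IsLocalRing.maximalIdeal A
  let MM : ModuleCat.{u} A := ModuleCat.of A M
  let X : DRing.Cx A := Dp J MM
  -- the cohomology of `X`
  let iso1 : Q.obj (sglP 0 MM) ≅ Dual.inD A M :=
    ((DerivedCategory.singleFunctorIsoCompQ (ModuleCat.{u} A) 0).app MM).symm
  let eX : ∀ q : ℤ, X.homology q ≃ₗ[A] (Dual.inD A M ⟶ ω⟦q⟧) := fun q =>
    (DpHom.homologyEquiv J MM q).trans
      (Linear.homCongr A iso1 ((shiftFunctor (Dual.D A) q).mapIso eJ))
  have hXfin : ∀ q : ℤ, Module.Finite A (Dual.HD A (Q.obj X) q) := fun q => by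
    haveI := finite_hom ω hω M q
    haveI : Module.Finite A (X.homology q) := Module.Finite.equiv (eX q).symm
    let e' : X.homology q ≃ₗ[A] Dual.HD A (Q.obj X) q :=
      ((DerivedCategory.homologyFunctorFactors (ModuleCat.{u} A) q).app X).toLinearEquiv.symm
    exact Module.Finite.equiv e'
  obtain ⟨a', b', hab'⟩ := hω.finite_injective_dimension
  have hXbd : ∀ q : ℤ, b' < q → Subsingleton (Dual.HD A (Q.obj X) q) := fun q hq => by
    haveI := hab' M q (Or.inr hq)
    haveI : Subsingleton (X.homology q) := (eX q).toEquiv.subsingleton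
    let e' : Dual.HD A (Q.obj X) q ≃ₗ[A] X.homology q :=
      ((DerivedCategory.homologyFunctorFactors (ModuleCat.{u} A) q).app X).toLinearEquiv
    exact e'.toEquiv.subsingleton
  -- a finite free resolution of `X`
  have hpc : ∀ m : ℤ, DRing.IsPseudoCoherent A m (Q.obj X) := fun m =>
    ((Groth.Agent.S6942.result A m (Q.obj X) M).1).2 ⟨⟨b', hXbd⟩, fun q _ => hXfin q⟩
  obtain ⟨P, bP, hPb, hPff, ⟨eP⟩⟩ := (Groth.Agent.S2066.result (Q.obj X)).1.1 hpc
  haveI : P.IsKProjective :=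
    Groth.Agent.Lib.Helper84.DRingPC.isKProjective_of_finiteFree P bP hPb hPff
  obtain ⟨u, hu⟩ := Groth.Agent.Lib.Helper84.KProj.exists_Q_map_eq P X eP.hom
  haveI : QuasiIso u := by
    rw [← DerivedCategory.isIso_Q_map_iff_quasiIso, hu]
    infer_instance
  -- the K-injective resolution `L = Hom•(P, J)` of `M`
  have hKF : Groth.Agent.Lib.Helper25.KFlat.IsKFlat P :=
    Groth.Agent.Lib.Helper25.KFlat.isKFlat_of_boundedAbove_of_flat P bP hPb (fun q => by
      haveI := (hPff q).2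
      infer_instance)
  let L : DRing.Cx A := DRing.homCx P J
  haveI : L.IsKInjective := Groth.Agent.Lib.Helper25.RHomTensor.isKInjective_homCx P J hKF
  have hq : QuasiIso ((eta J).app MM) :=
    quasiIso_of_finite (DD J) (eta J) (shortExact_map_DD J hJ) (b - a)
      (fun N j hj => isZero_DD_homology J a b hb N j hj)
      (quasiIso_eta_self J hωJ.toEnd_bijective hωJ.ext_self_subsingleton) M
  haveI : QuasiIso (homCxPre u J) := Groth.Agent.Lib.Helper25.RHomKInj.quasiIso_homCxPre u J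
  let w : (sgl0 A).obj MM ⟶ L := (eta J).app MM ≫ homCxPre u J
  haveI : IsIso (Q.map w) := by
    have h1 : IsIso (Q.map ((eta J).app MM)) :=
      (DerivedCategory.isIso_Q_map_iff_quasiIso _ _).2 hq
    have h2 : IsIso (Q.map (homCxPre u J)) :=
      (DerivedCategory.isIso_Q_map_iff_quasiIso _ _).2 inferInstance
    rw [Functor.map_comp]
    exact IsIso.comp_isIso' h1 h2
  let eL : Q.obj L ≅ Dual.inD A M := (asIso (Q.map w)).symm ≪≫ iso1
  -- the chain of equivalences
  let e1 : LocCoh.H 𝔪 i M ≃ₗ[A] Dual2.HDI A 𝔪 (Dual.inD A M) i := (hdiEquivH 𝔪 i MM).symm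
  let e2 : Dual2.HDI A 𝔪 (Dual.inD A M) i ≃ₗ[A] ((gam 𝔪 L).homology i) :=
    hdiEquivHomology 𝔪 L (Dual.inD A M) eL i
  let G : DRing.Cx A := gam 𝔪 J
  let e3 : ((gam 𝔪 L).homology i) ≃ₗ[A] ((DRing.homCx P G).homology i) :=
    ((HomologicalComplex.homologyFunctor (ModuleCat.{u} A) (ComplexShape.up ℤ) i).mapIso
      (gamHomIso 𝔪 P J (fun p => (hPff p).1) bP hPb a (fun q hq => hb q (Or.inl hq)))).symm.toLinearEquiv
  -- `Γ_m J ≃ E[0]`
  let EE : ModuleCat.{u} A := ModuleCat.of A E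
  haveI : Injective EE := (Module.injective_iff_injective_object A E).1 hf.isInjective
  obtain ⟨⟨e0⟩, hvan⟩ := Groth.Agent.S1718.result A ω hω hn E f hf
  let eG : G.homology 0 ≅ EE := ((hdiEquivHomology 𝔪 J ω eJ 0).symm.trans e0).toModuleIso
  have hGvan : ∀ j : ℤ, j ≠ 0 → IsZero (G.homology j) := fun j hj => by
    haveI := hvan j hj
    haveI : Subsingleton (G.homology j) := (hdiEquivHomology 𝔪 J ω eJ j).symm.toEquiv.subsingleton
    exact ModuleCat.isZero_of_subsingleton _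
  haveI : QuasiIso (toSgl G EE eG) := quasiIso_toSgl G EE eG hGvan
  haveI : QuasiIso (DRing.homCxMap P (toSgl G EE eG)) :=
    Groth.Agent.Lib.Helper25.HomCxQis.quasiIso_homCxMap P _
  haveI : IsIso (HomologicalComplex.homologyMap (DRing.homCxMap P (toSgl G EE eG)) i) :=
    (quasiIsoAt_iff_isIso_homologyMap _ (i : ℤ)).1 inferInstance
  let e4 : ((DRing.homCx P G).homology i) ≃ₗ[A] ((DRing.homCx P (Sg EE)).homology i) :=
    (asIso (HomologicalComplex.homologyMap (DRing.homCxMap P (toSgl G EE eG)) i)).toLinearEquiv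
  have hmn : -(i : ℤ) + (i : ℤ) = 0 := by omega
  let e5 : ((DRing.homCx P (Sg EE)).homology i) ≃ₗ[A] (P.homology (-(i : ℤ)) ⟶ EE) :=
    homologyEquivSgl P EE hmn
  haveI : IsIso (HomologicalComplex.homologyMap u (-(i : ℤ))) :=
    (quasiIsoAt_iff_isIso_homologyMap _ _).1 inferInstance
  let e6 : (P.homology (-(i : ℤ)) ⟶ EE) ≃ₗ[A] (X.homology (-(i : ℤ)) ⟶ EE) :=
    Linear.homCongr A (asIso (HomologicalComplex.homologyMap u (-(i : ℤ)))) (Iso.refl EE)
  let e7 : (X.homology (-(i : ℤ)) ⟶ EE) ≃ₗ[A] (X.homology (-(i : ℤ)) →ₗ[A] E) :=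
    ModuleCat.homLinearEquiv (S := A)
  let e8 : (X.homology (-(i : ℤ)) →ₗ[A] E) ≃ₗ[A] ((Dual.inD A M ⟶ ω⟦(-(i : ℤ))⟧) →ₗ[A] E) :=
    LinearEquiv.arrowCongr (eX (-(i : ℤ))) (LinearEquiv.refl A E)
  exact ⟨e1.trans (e2.trans (e3.trans (e4.trans (e5.trans (e6.trans (e7.trans e8))))))⟩

end Groth.Agent.Lib.Helper39.LD
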