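import Groth.Agent.Lib.Helper85.MatlisDual
import Groth.Agent.Lib.Helper39.LD.GamHom

/-!
# Matlis: `Hom(Hom(N, E), E) ≃ N^` for a finite module over a Noetherian local ring (helper39)
-/

set_option autoImplicit false
universe u

namespace Groth.Agent.Lib.Helper39.LD

open InjHull IsLocalRing Groth.Agent.Lib.Helper85.Matlis

variable (R : Type u) [CommRing R] [IsLocalRing R] [IsNoetherianRing R]
  {E : Type u} [AddCommGroup E] [Module R E] {f : ResidueField R →ₗ[R] E}
  (N : Type u) [AddCommGroup N] [Module R N] [Module.Finite R N]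

/-- `N / m^k N` -/
abbrev Nk (k : ℕ) : Type u := N ⧸ (maximalIdeal R ^ k • ⊤ : Submodule R N)

theorem isFiniteLength_Nk (k : ℕ) : IsFiniteLength R (Nk R N k) := by
  rw [isFiniteLength_iff_isNoetherian_isArtinian]
  refine ⟨inferInstance, ?_⟩
  rcases Nat.eq_zero_or_pos k with rfl | hk
  · haveI : Subsingleton (Nk R N 0) := by
      have : (maximalIdeal R ^ 0 • ⊤ : Submodule R N) = ⊤ := by
        rw [pow_zero, Ideal.one_eq_top, Submodule.top_smul]
      exact Submodule.Quotient.subsingleton_iff.2 this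
    infer_instance
  · set a : Ideal R := maximalIdeal R ^ k with ha
    haveI : IsArtinianRing (R ⧸ a) := by
      apply IsLocalRing.quotient_artinian_of_mem_minimalPrimes_of_isLocalRing
      rw [ha]
      refine ⟨⟨inferInstance, Ideal.pow_le_self (by omega)⟩, ?_⟩
      rintro q ⟨hq, hq'⟩ _
      exact hq.le_of_pow_le hq'
    haveI : Module.Finite (R ⧸ a) (N ⧸ (a • ⊤ : Submodule R N)) :=
      Module.Finite.of_restrictScalars_finite R (R ⧸ a) _
    haveI : IsArtinian (R ⧸ a) (N ⧸ (a • ⊤ : Submodule R N)) := inferInstance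
    exact isArtinian_of_surjective_algebraMap (R := R ⧸ a) (S := R)
      (M := N ⧸ (a • ⊤ : Submodule R N)) Ideal.Quotient.mk_surjective

variable {R}
variable (hf : IsInjectiveHull f)

/-- Matlis duality for `N / m^k N` -/
noncomputable def evEquiv (k : ℕ) : Nk R N k ≃ₗ[R] ((Nk R N k →ₗ[R] E) →ₗ[R] E) :=
  LinearEquiv.ofBijective _ (applyₗ_bijective_of_isFiniteLength hf _ (isFiniteLength_Nk R N k))

theorem evEquiv_apply (k : ℕ) (y : Nk R N k) (ψ : Nk R N k →ₗ[R] E) : evEquiv N hf k y ψ = ψ y := rfl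

variable (E) in
/-- restriction `DD(N) → DD(N_k)` -/
noncomputable def resDD (k : ℕ) :
    ((N →ₗ[R] E) →ₗ[R] E) →ₗ[R] ((Nk R N k →ₗ[R] E) →ₗ[R] E) :=
  LinearMap.lcomp R E (LinearMap.lcomp R E (Submodule.mkQ _))

theorem resDD_apply (k : ℕ) (ξ : (N →ₗ[R] E) →ₗ[R] E) (ψ : Nk R N k →ₗ[R] E) :
    resDD E N k ξ ψ = ξ (ψ ∘ₗ Submodule.mkQ _) := rfl

/-- the `k`-th component of the comparison map -/
noncomputable def PsiK (k : ℕ) : ((N →ₗ[R] E) →ₗ[R] E) →ₗ[R] Nk R N k :=
  (evEquiv N hf k).symm.toLinearMap ∘ₗ resDD E N k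

theorem PsiK_spec (k : ℕ) (ξ : (N →ₗ[R] E) →ₗ[R] E) (ψ : Nk R N k →ₗ[R] E) :
    ψ (PsiK N hf k ξ) = ξ (ψ ∘ₗ Submodule.mkQ _) := by
  rw [← evEquiv_apply N hf k (PsiK N hf k ξ) ψ]
  change evEquiv N hf k ((evEquiv N hf k).symm (resDD E N k ξ)) ψ = _
  rw [LinearEquiv.apply_symm_apply, resDD_apply]

include hf in
theorem eq_of_forall_hom (k : ℕ) (y y' : Nk R N k) (h : ∀ ψ : Nk R N k →ₗ[R] E, ψ y = ψ y') :
    y = y' := by
  apply (evEquiv N hf k).injective
  ext ψ
  exact h ψ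

theorem PsiK_compat {j k : ℕ} (h : j ≤ k) :
    AdicCompletion.transitionMap (maximalIdeal R) N h ∘ₗ PsiK N hf k = PsiK N hf j := by
  ext ξ
  apply eq_of_forall_hom N hf j
  intro ψ
  rw [PsiK_spec]
  change (ψ ∘ₗ AdicCompletion.transitionMap (maximalIdeal R) N h) (PsiK N hf k ξ) = _
  rw [PsiK_spec]
  congr 1

/-- the comparison map `DD(N) → N^` -/
noncomputable def Psi : ((N →ₗ[R] E) →ₗ[R] E) →ₗ[R] AdicCompletion (maximalIdeal R) N :=
  AdicCompletion.lift (maximalIdeal R) (PsiK N hf) (fun h => PsiK_compat N hf h)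

theorem Psi_val (ξ : (N →ₗ[R] E) →ₗ[R] E) (k : ℕ) : (Psi N hf ξ).val k = PsiK N hf k ξ := rfl

include hf in
/-- every map `N → E` factors through some `N / m^k N` -/
theorem exists_factor (φ : N →ₗ[R] E) :
    ∃ (k : ℕ) (ψ : Nk R N k →ₗ[R] E), ψ ∘ₗ Submodule.mkQ _ = φ := by
  have htor : ∀ e : E, e ∈ DRing.torsionSub (maximalIdeal R) E :=
    fun e => isPowerTorsion hf.toIsEssentialInj e
  obtain ⟨k, hk⟩ := exists_pow_kill (maximalIdeal R)
    (LinearMap.codRestrict (DRing.torsionSub (maximalIdeal R) E) φ (fun x => htor (φ x)))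
  have hker : (maximalIdeal R ^ k • ⊤ : Submodule R N) ≤ LinearMap.ker φ := by
    rw [Submodule.smul_le]
    intro r hr x _
    rw [LinearMap.mem_ker, map_smul]
    exact congrArg Subtype.val (hk r hr x)
  exact ⟨k, Submodule.liftQ _ φ hker, Submodule.liftQ_mkQ _ φ hker⟩

theorem Psi_injective : Function.Injective (Psi N hf) := by
  rw [← LinearMap.ker_eq_bot, LinearMap.ker_eq_bot']
  intro ξ hξ
  ext φ
  obtain ⟨k, ψ, rfl⟩ := exists_factor N hf φ
  rw [← PsiK_spec N hf k ξ ψ, ← Psi_val, hξ]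
  simp

section Surj

variable (y : AdicCompletion (maximalIdeal R) N)

/-- the functional attached to a compatible family -/
noncomputable def xiFun (φ : N →ₗ[R] E) : E :=
  (exists_factor N hf φ).choose_spec.choose (y.val (exists_factor N hf φ).choose)

theorem xiFun_eq (φ : N →ₗ[R] E) (k : ℕ) (ψ : Nk R N k →ₗ[R] E)
    (hψ : ψ ∘ₗ Submodule.mkQ _ = φ) : xiFun N hf y φ = ψ (y.val k) := by
  unfold xiFun
  set k' := (exists_factor N hf φ).choose
  set ψ' := (exists_factor N hf φ).choose_spec.choose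
  have hψ' : ψ' ∘ₗ Submodule.mkQ _ = φ := (exists_factor N hf φ).choose_spec.choose_spec
  set l := max k k'
  have h1 : y.val k = AdicCompletion.transitionMap (maximalIdeal R) N (le_max_left k k') (y.val l) :=
    (y.2 (le_max_left k k')).symm
  have h2 : y.val k' =
      AdicCompletion.transitionMap (maximalIdeal R) N (le_max_right k k') (y.val l) :=
    (y.2 (le_max_right k k')).symm
  rw [h1, h2]
  have h3 : ψ' ∘ₗ AdicCompletion.transitionMap (maximalIdeal R) N (le_max_right k k') =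
      ψ ∘ₗ AdicCompletion.transitionMap (maximalIdeal R) N (le_max_left k k') := by
    apply LinearMap.ext
    intro z
    obtain ⟨z, rfl⟩ := Submodule.Quotient.mk_surjective _ z
    change ψ' (Submodule.Quotient.mk z) = ψ (Submodule.Quotient.mk z)
    exact (LinearMap.congr_fun hψ' z).trans (LinearMap.congr_fun hψ z).symm
  exact LinearMap.congr_fun h3 (y.val l)

/-- the functional attached to a compatible family, as a linear map -/
noncomputable def xi : (N →ₗ[R] E) →ₗ[R] E where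
  toFun := xiFun N hf y
  map_add' φ φ' := by
    obtain ⟨k, ψ, hψ⟩ := exists_factor N hf φ
    obtain ⟨k', ψ', hψ'⟩ := exists_factor N hf φ'
    set l := max k k'
    let ψl := ψ ∘ₗ AdicCompletion.transitionMap (maximalIdeal R) N (le_max_left k k')
    let ψl' := ψ' ∘ₗ AdicCompletion.transitionMap (maximalIdeal R) N (le_max_right k k')
    have h1 : ψl ∘ₗ Submodule.mkQ _ = φ := by rw [← hψ]; rfl
    have h2 : ψl' ∘ₗ Submodule.mkQ _ = φ' := by rw [← hψ']; rfl
    have h3 : (ψl + ψl') ∘ₗ Submodule.mkQ _ = φ + φ' := by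
      rw [LinearMap.add_comp, h1, h2]
    rw [xiFun_eq N hf y φ l ψl h1, xiFun_eq N hf y φ' l ψl' h2,
      xiFun_eq N hf y (φ + φ') l (ψl + ψl') h3]
    rfl
  map_smul' r φ := by
    obtain ⟨k, ψ, hψ⟩ := exists_factor N hf φ
    have h3 : (r • ψ) ∘ₗ Submodule.mkQ _ = r • φ := by rw [LinearMap.smul_comp, hψ]
    rw [xiFun_eq N hf y φ k ψ hψ, xiFun_eq N hf y (r • φ) k (r • ψ) h3]
    rfl

theorem Psi_xi : Psi N hf (xi N hf y) = y := by
  apply AdicCompletion.ext
  intro k
  rw [Psi_val]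
  apply eq_of_forall_hom N hf k
  intro ψ
  rw [PsiK_spec]
  exact xiFun_eq N hf y _ k ψ rfl

end Surj

/-- **Matlis**: `Hom(Hom(N, E), E) ≃ N^`. -/
noncomputable def matlisCompletion :
    ((N →ₗ[R] E) →ₗ[R] E) ≃ₗ[R] AdicCompletion (maximalIdeal R) N :=
  LinearEquiv.ofBijective (Psi N hf)
    ⟨Psi_injective N hf, fun y => ⟨xi N hf y, Psi_xi N hf y⟩⟩

end Groth.Agent.Lib.Helper39.LD
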