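import Groth.Agent.Lib.Helper39.LD.MainCx
import Groth.Agent.Lib.Helper39.LD.Cor
import Groth.Agent.Lib.Helper39.LD.DualSelf
import Groth.Agent.Lib.Helper39.Dual.LocExt
import Groth.Agent.Lib.Helper25.Bidual.Residue
import Groth.Agent.Lib.Helper25.WayOutCx
import Groth.Agent.Lib.Helper85.HullExist
import Groth.Agent.Lib.Helper25.LocDual.HomLocSingle

/-!
# Uniqueness of dualizing complexes over a Noetherian local ring (helper39)
-/

set_option autoImplicit false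
universe u

namespace Groth.Agent.Lib.Helper39.LD.Unique

open CategoryTheory CategoryTheory.Limits DerivedCategory HomologicalComplex
open Groth.Agent.Lib.Helper25.Bidual Groth.Agent.Lib.Helper25.HomCxPre
open Groth.Agent.Lib.Helper25.WayOutCx
open Groth.Agent.Lib.Helper39.Dual

attribute [local instance] HasDerivedCategory.standard

section General

variable {A : Type u} [CommRing A]

/-- a complex whose cohomology is `A` in degree `0` and zero elsewhere receives a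
quasi-isomorphism from `A[0]` -/
theorem exists_quasiIso_sglA (X : DRing.Cx A) (e0 : X.homology 0 ≃ₗ[A] A)
    (hv : ∀ j : ℤ, j ≠ 0 → IsZero (X.homology j)) :
    ∃ v : sglA A 0 ⟶ X, QuasiIso v := by
  have eH : ∀ j : ℤ, (DerivedCategory.homologyFunctor (ModuleCat.{u} A) j).obj (Q.obj X) ≅
      X.homology j := fun j =>
    (DerivedCategory.homologyFunctorFactors (ModuleCat.{u} A) j).app X
  haveI : (Q.obj X).IsGE 0 := by
    rw [isGE_iff]
    intro j hj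
    exact (hv j (by omega)).of_iso (eH j)
  haveI : (Q.obj X).IsLE 0 := by
    rw [isLE_iff]
    intro j hj
    exact (hv j (by omega)).of_iso (eH j)
  obtain ⟨N, ⟨eN⟩⟩ := exists_iso_singleFunctor_obj_of_isGE_of_isLE (Q.obj X) 0
  let e1 : N ≅ ModuleCat.of A A :=
    ((singleFunctorCompHomologyFunctorIso (ModuleCat.{u} A) 0).app N).symm ≪≫
      (DerivedCategory.homologyFunctor (ModuleCat.{u} A) 0).mapIso eN.symm ≪≫ eH 0 ≪≫
      e0.toModuleIso
  let θ : Q.obj (sglA A 0) ≅ Q.obj X :=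
    ((DerivedCategory.singleFunctorIsoCompQ (ModuleCat.{u} A) 0).app (ModuleCat.of A A)).symm ≪≫
      (DerivedCategory.singleFunctor (ModuleCat.{u} A) 0).mapIso e1.symm ≪≫ eN.symm
  obtain ⟨v, hv'⟩ := Groth.Agent.Lib.Helper84.KProj.exists_Q_map_eq (sglA A 0) X θ.hom
  refine ⟨v, ?_⟩
  rw [← DerivedCategory.isIso_Q_map_iff_quasiIso, hv']
  infer_instance

end General

section Local

variable {A : Type u} [CommRing A] [IsLocalRing A] [IsNoetherianRing A]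

/-- two normalized dualizing complexes over a Noetherian local ring are isomorphic -/
theorem normalized_unique (ω₁ ω₂ : Dual.D A) (h₁ : Dual.IsDualizing A ω₁)
    (hn₁ : Dual.IsNormalized A ω₁) (h₂ : Dual.IsDualizing A ω₂) (hn₂ : Dual.IsNormalized A ω₂) :
    Nonempty (ω₂ ≅ ω₁) := by
  obtain ⟨E, _, _, f, hf⟩ :=
    Groth.Agent.Lib.Helper85.Hull.exists_injectiveHull (R := A) (IsLocalRing.ResidueField A)
  obtain ⟨J₁, a₁, b₁, hJ₁, hb₁, ⟨eJ₁⟩⟩ := exists_bounded_injective_model ω₁ h₁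
  obtain ⟨J₂, a₂, b₂, hJ₂, hb₂, ⟨eJ₂⟩⟩ := exists_bounded_injective_model ω₂ h₂
  haveI : J₁.IsStrictlyGE a₁ := by
    rw [CochainComplex.isStrictlyGE_iff]
    intro q hq
    exact hb₁ q (Or.inl hq)
  haveI : J₁.IsKInjective := CochainComplex.isKInjective_of_injective J₁ a₁
  have hωJ₁ : Dual.IsDualizing A (Q.obj J₁) := isDualizing_of_iso eJ₁.symm h₁
  have hInj₁ : DRing.HasInjAmplitudeIn A a₁ b₁ ω₁ :=
    ⟨J₁, hb₁, fun n => (Module.injective_iff_injective_object A (J₁.X n)).2 (hJ₁ n), ⟨eJ₁⟩⟩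
  let 𝔪 := IsLocalRing.maximalIdeal A
  -- `ω₂` has bounded finite cohomology
  have hfin₂ := h₂.finite_cohomology
  have hbd₂ : ∃ a b : ℤ, ∀ i : ℤ, (i < a ∨ b < i) → Subsingleton (Dual.HD A ω₂ i) :=
    ⟨a₂, b₂, fun i hi => ModuleCat.subsingleton_of_isZero
      (IsZero.of_iso (Groth.Agent.Lib.Helper84.HomFinite.isZero_homology_Q J₂ i (hb₂ i hi))
        ((DerivedCategory.homologyFunctor (ModuleCat.{u} A) i).mapIso eJ₂.symm))⟩
  -- local duality and the local cohomology of `ω₂`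
  have hLD := fun i : ℤ => localDualityCx ω₁ h₁ hn₁ E f hf ω₂ hfin₂ hbd₂ i
  obtain ⟨⟨e0⟩, hvan⟩ := Groth.Agent.S1718.result A ω₂ h₂ hn₂ E f hf
  have hfinHom : ∀ q : ℤ, Module.Finite A (ω₂ ⟶ ω₁⟦q⟧) := fun q =>
    Groth.Agent.Lib.Helper84.HomFinite.finite_hom ω₂ ω₁ hfin₂ h₁.finite_cohomology
      ⟨a₁, b₁, hInj₁⟩ q
  have hvanHom : ∀ i : ℤ, i ≠ 0 → Subsingleton (ω₂ ⟶ ω₁⟦(-i)⟧) := fun i hi => by
    obtain ⟨e2⟩ := hLD i
    haveI := hvan i hi
    haveI : Subsingleton ((ω₂ ⟶ ω₁⟦(-i)⟧) →ₗ[A] E) := e2.symm.toEquiv.subsingleton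
    haveI := hfinHom (-i)
    refine ⟨fun x y => ?_⟩
    by_contra hxy
    obtain ⟨φ, hφ⟩ := Groth.Agent.Lib.Helper39.LD.exists_hom_apply_ne_zero' hf
      (ω₂ ⟶ ω₁⟦(-i)⟧) (x - y) (sub_ne_zero.2 hxy)
    apply hφ
    rw [Subsingleton.elim φ 0]
    rfl
  -- `Hom(ω₂, ω₁) ≃ A`
  have hT : Nonempty ((ω₂ ⟶ ω₁⟦(-(0 : ℤ))⟧) ≃ₗ[A] A) := by
    obtain ⟨e2⟩ := hLD 0
    haveI := hfinHom (-(0 : ℤ))
    obtain ⟨n, K, ⟨eN⟩⟩ := exists_small_model (A := A) (ω₂ ⟶ ω₁⟦(-(0 : ℤ))⟧)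
    let eD : (((Fin n → A) ⧸ K) →ₗ[A] E) ≃ₗ[A] E :=
      (LinearEquiv.arrowCongr eN (LinearEquiv.refl A E)).trans (e2.symm.trans e0)
    obtain ⟨eA⟩ := DualSelf.nonempty_equiv_self hf ((Fin n → A) ⧸ K) eD
    exact ⟨eN.symm.trans eA⟩
  obtain ⟨eT⟩ := hT
  -- the complex `X = Hom•(J₂, J₁)`
  let X : DRing.Cx A := DRing.homCx J₂ J₁
  let eX : ∀ q : ℤ, X.homology q ≃ₗ[A] (ω₂ ⟶ ω₁⟦q⟧) := fun q =>
    (HomCxHom.homologyEquiv J₂ J₁ q).trans
      (Linear.homCongr A eJ₂ ((shiftFunctor (Dual.D A) q).mapIso eJ₁))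
  have hXv : ∀ j : ℤ, j ≠ 0 → IsZero (X.homology j) := fun j hj => by
    haveI := hvanHom (-j) (by omega)
    haveI : Subsingleton (ω₂ ⟶ ω₁⟦j⟧) := by
      have h : -(-j) = j := neg_neg j
      rw [h] at this
      exact this
    haveI : Subsingleton (X.homology j) := (eX j).toEquiv.subsingleton
    exact ModuleCat.isZero_of_subsingleton _
  have eX0 : X.homology 0 ≃ₗ[A] A := by
    have h : (-(0 : ℤ)) = 0 := neg_zero
    rw [h] at eT
    exact (eX 0).trans eT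
  obtain ⟨v, hv⟩ := exists_quasiIso_sglA X eX0 hXv
  -- biduality
  have eH : ∀ j : ℤ, (DerivedCategory.homologyFunctor (ModuleCat.{u} A) j).obj ω₂ ≅
      J₂.homology j := fun j =>
    (DerivedCategory.homologyFunctor (ModuleCat.{u} A) j).mapIso eJ₂.symm ≪≫
      (DerivedCategory.homologyFunctorFactors (ModuleCat.{u} A) j).app J₂
  obtain ⟨c, d, hcd⟩ := hbd₂
  have hq : QuasiIso (EtaC.etaC J₁ J₂) :=
    BidualD.quasiIso_etaC J₁ a₁ b₁ hJ₁ hb₁ hωJ₁ J₂ c d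
      (fun j hj => by
        haveI := hcd j hj
        exact (ModuleCat.isZero_of_subsingleton _).of_iso (eH j).symm)
      (fun j => by
        haveI := hfin₂ j
        exact Module.Finite.equiv (eH j).toLinearEquiv)
  haveI : QuasiIso (homCxPre v J₁) := Groth.Agent.Lib.Helper25.RHomKInj.quasiIso_homCxPre v J₁
  have h1 : IsIso (Q.map (EtaC.etaC J₁ J₂)) :=
    (DerivedCategory.isIso_Q_map_iff_quasiIso _ _).2 hq
  have h2 : IsIso (Q.map (homCxPre v J₁)) :=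
    (DerivedCategory.isIso_Q_map_iff_quasiIso _ _).2 inferInstance
  let c0 : Dp J₁ (ModuleCat.of A A) ≅ DRing.homCx (sglA A 0) J₁ :=
    asIso (BidualMod.cHom J₁ (ModuleCat.of A A))
  exact ⟨eJ₂.symm ≪≫ asIso (Q.map (EtaC.etaC J₁ J₂)) ≪≫ asIso (Q.map (homCxPre v J₁)) ≪≫
    Q.mapIso c0.symm ≪≫ Q.mapIso (ev1Iso J₁) ≪≫ eJ₁⟩

/-- some shift of a dualizing complex over a local ring is normalized -/
theorem exists_normalized_shift (ω : Dual.D A) (hω : Dual.IsDualizing A ω) :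
    ∃ n : ℤ, Dual.IsNormalized A (ω⟦n⟧) := by
  obtain ⟨n, hn, -⟩ := residue_main (IsLocalRing.maximalIdeal A) ω hω
  refine ⟨n, fun i hi => ?_⟩
  have h1 : Subsingleton (Dual.inD A (A ⧸ IsLocalRing.maximalIdeal A) ⟶ ω⟦n + i⟧) :=
    hn (n + i) (by omega)
  exact (Groth.Agent.Lib.Helper25.LocDual.subsingleton_hom_congr_right
    ((shiftFunctorAdd' (Dual.D A) n i (n + i) rfl).app ω)).1 h1

/-- uniqueness of dualizing complexes over a Noetherian local ring, up to shift -/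
theorem unique_up_to_shift (ω ω' : Dual.D A) (hω : Dual.IsDualizing A ω)
    (hω' : Dual.IsDualizing A ω') : ∃ n : ℤ, Nonempty (ω' ≅ ω⟦n⟧) := by
  obtain ⟨n, hn⟩ := exists_normalized_shift ω hω
  obtain ⟨n', hn'⟩ := exists_normalized_shift ω' hω'
  obtain ⟨θ⟩ := normalized_unique (ω⟦n⟧) (ω'⟦n'⟧) (isDualizing_shift ω hω n) hn
    (isDualizing_shift ω' hω' n') hn'
  refine ⟨n - n', ⟨?_⟩⟩
  exact ((shiftFunctorCompIsoId (Dual.D A) n' (-n') (by omega)).app ω').symm ≪≫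
    (shiftFunctor (Dual.D A) (-n')).mapIso θ ≪≫
    ((shiftFunctorAdd' (Dual.D A) n (-n') (n - n') (by omega)).app ω).symm

end Local

end Groth.Agent.Lib.Helper39.LD.Unique
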